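import Cfsg.Agent.H98.ExtField.Overgroup
import Cfsg.Agent.Unitary.Field

/-!
A hermitian form over an odd degree extension `K` of `F` (both of square order) and its trace form.
-/

set_option autoImplicit false
set_option linter.unusedSectionVars false
set_option linter.style.haveILetI false

namespace Cfsg.Agent.H58.SUExt

open Module Cfsg.Agent.H98.ExtField

/-- A nondegenerate hermitian form over `K`, `card F = q ^ 2`, `[K : F]` odd. -/
structure UForm (F K V : Type*) [Field F] [Fintype F] [Field K] [Fintype K] [Algebra F K] [AddCommGroup V]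
    [Module F V] [Module K V] [IsScalarTower F K V] where
  q : ℕ
  hF : Fintype.card F = q ^ 2
  hr : Odd (finrank F K)
  hK : Fintype.card K = (q ^ finrank F K) ^ 2
  B : V → V → K
  B_add_left : ∀ x y z, B (x + y) z = B x z + B y z
  B_smul_left : ∀ (k : K) x y, B (k • x) y = k * B x y
  B_herm : ∀ x y, Unitary.frob hK (B x y) = B y x
  nd : ∀ x, (∀ y, B x y = 0) → x = 0

namespace UForm

variable {F : Type*} [Field F] [Fintype F] {K : Type*} [Field K] [Fintype K] [Algebra F K]
  {V : Type*} [AddCommGroup V] [Module F V] [Module K V] [IsScalarTower F K V] (S : UForm F K V)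

/-- The conjugation of `F`. -/
noncomputable def σ : F ≃+* F := Unitary.frob S.hF

/-- The conjugation of `K`. -/
noncomputable def κ : K ≃+* K := Unitary.frob S.hK

theorem σ_apply (x : F) : S.σ x = x ^ S.q := rfl

theorem κ_apply (x : K) : S.κ x = x ^ (S.q ^ finrank F K) := rfl

@[simp] theorem σσ (x : F) : S.σ (S.σ x) = x := by
  simp only [σ_apply]; exact Unitary.pow_q_q S.hF x

@[simp] theorem κκ (x : K) : S.κ (S.κ x) = x := by
  simp only [κ_apply]; exact Unitary.pow_q_q S.hK x

theorem r_pos (S : UForm F K V) : 0 < finrank F K := by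
  obtain ⟨j, hj⟩ := S.hr
  omega

theorem κ_algebraMap (a : F) : S.κ (algebraMap F K a) = algebraMap F K (S.σ a) := by
  obtain ⟨j, hj⟩ := S.hr
  rw [κ_apply, σ_apply, ← map_pow, hj, pow_succ, pow_mul S.q, ← S.hF, pow_mul, FiniteField.pow_card_pow]

theorem κ_smul (a : F) (k : K) : S.κ (a • k) = S.σ a • S.κ k := by
  rw [Algebra.smul_def, Algebra.smul_def, map_mul, κ_algebraMap]

/-- The trace. -/
noncomputable abbrev tr : K →ₗ[F] F := Algebra.trace F K

theorem σ_tr (k : K) : S.σ (tr k) = tr (S.κ k) := by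
  refine (algebraMap F K).injective ?_
  rw [← κ_algebraMap, FiniteField.algebraMap_trace_eq_sum_pow, FiniteField.algebraMap_trace_eq_sum_pow,
    map_sum]
  exact Finset.sum_congr rfl fun i _ => map_pow _ _ _

theorem eq_zero_of_tr {a : K} (h : ∀ k : K, (tr (k * a) : F) = 0) : a = 0 :=
  (traceForm_nondegenerate F K).1 a fun k => by rw [Algebra.traceForm_apply, mul_comm]; exact h k

theorem exists_tr_ne : ∃ k : K, (tr k : F) ≠ 0 := by
  by_contra h
  push Not at h
  exact one_ne_zero (eq_zero_of_tr (F := F) fun k => h (k * (1 : K)))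

/-! ### Skew and fixed elements. -/

/-- `a` is skew. -/
def Skew (a : K) : Prop := S.κ a = -a

theorem exists_e : ∃ e : F, S.σ e ≠ e := by
  obtain ⟨δ, hδ0, hδ⟩ := Unitary.exists_skew S.hF
  by_cases h : δ ^ S.q = δ
  · -- characteristic two
    obtain ⟨x, hx⟩ := Unitary.exists_trace_ne_zero S.hF
    refine ⟨x, fun hx' => hx ?_⟩
    rw [σ_apply] at hx'
    rw [hδ, neg_eq_iff_add_eq_zero, ← two_mul, mul_eq_zero, or_iff_left hδ0] at h
    rw [hx', ← two_mul, h, zero_mul]
  · exact ⟨δ, h⟩

theorem exists_skewF : ∃ d : F, d ≠ 0 ∧ S.σ d = -d := Unitary.exists_skew S.hF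

theorem exists_decomp {e : F} (he : S.σ e ≠ e) (k : K) :
    ∃ c₁ c₂ : K, S.κ c₁ = c₁ ∧ S.κ c₂ = c₂ ∧ k = c₁ + e • c₂ := by
  have h0 : e - S.σ e ≠ 0 := sub_ne_zero.2 (Ne.symm he)
  set c₂ := (e - S.σ e)⁻¹ • (k - S.κ k) with hc₂
  have hk : S.κ c₂ = c₂ := by
    rw [hc₂, κ_smul, map_sub, κκ, map_inv₀, map_sub, σσ, ← neg_sub e (S.σ e), ← neg_sub k (S.κ k),
      inv_neg, neg_smul, smul_neg, neg_neg]
  refine ⟨k - e • c₂, c₂, ?_, hk, (sub_add_cancel _ _).symm⟩
  have : (e - S.σ e) • c₂ = k - S.κ k := smul_inv_smul₀ h0 _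
  rw [map_sub, κ_smul, hk]
  rw [sub_smul] at this
  linear_combination (norm := module) this

theorem span_skew : Submodule.span F {a : K | S.Skew a} = ⊤ := by
  obtain ⟨e, he⟩ := S.exists_e
  obtain ⟨d, hd0, hd⟩ := S.exists_skewF
  have hs : ∀ c : K, S.κ c = c → d • c ∈ Submodule.span F {a : K | S.Skew a} := fun c hc =>
    Submodule.subset_span (show S.κ (d • c) = -(d • c) by rw [κ_smul, hd, hc, neg_smul])
  rw [eq_top_iff]
  intro k _
  obtain ⟨c₁, c₂, h₁, h₂, hk⟩ := S.exists_decomp he (d⁻¹ • k)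
  rw [show k = d • c₁ + e • (d • c₂) by rw [smul_comm e d c₂, ← smul_add, ← hk, smul_inv_smul₀ hd0]]
  exact Submodule.add_mem _ (hs c₁ h₁) (Submodule.smul_mem _ e (hs c₂ h₂))

theorem exists_half {n : K} (hn : S.κ n = n) : ∃ k : K, k + S.κ k = n := by
  obtain ⟨x, hx⟩ := Unitary.exists_trace_eq S.hK (a := n) hn
  exact ⟨x, hx⟩

theorem exists_norm {n : K} (hn : S.κ n = n) : ∃ k : K, k * S.κ k = n :=
  Unitary.exists_norm_eq S.hK (a := n) hn

theorem card_skew : Nat.card {a : K // S.Skew a} = S.q ^ finrank F K := by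
  have h := Unitary.card_trace_zero S.hK
  refine (Eq.trans (Nat.card_congr (Equiv.subtypeEquivRight fun a => ?_)) h)
  rw [Skew, κ_apply, eq_neg_iff_add_eq_zero, add_comm]

/-! ### The forms. -/

theorem B_add_right (x y z : V) : S.B x (y + z) = S.B x y + S.B x z := by
  rw [← S.B_herm, S.B_add_left, map_add, S.B_herm, S.B_herm]

theorem B_smul_right (k : K) (x y : V) : S.B x (k • y) = S.κ k * S.B x y := by
  rw [← S.B_herm, S.B_smul_left, map_mul, S.B_herm]; rfl

theorem κB (x y : V) : S.κ (S.B x y) = S.B y x := S.B_herm x y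

@[simp] theorem B_zero_left (y : V) : S.B 0 y = 0 := by
  rw [← zero_smul K y, S.B_smul_left, zero_mul]

@[simp] theorem B_zero_right (y : V) : S.B y 0 = 0 := by rw [← κB, B_zero_left, map_zero]

theorem B_sub_left (x y z : V) : S.B (x - y) z = S.B x z - S.B y z := by
  rw [eq_sub_iff_add_eq, ← S.B_add_left, sub_add_cancel]

theorem B_sub_right (x y z : V) : S.B x (y - z) = S.B x y - S.B x z := by
  rw [eq_sub_iff_add_eq, ← S.B_add_right, sub_add_cancel]

theorem symm_zero {x y : V} (h : S.B x y = 0) : S.B y x = 0 := by rw [← κB, h, map_zero]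

/-- `B · c` as a linear map. -/
def Bl (c : V) : V →ₗ[K] K where
  toFun x := S.B x c
  map_add' x y := S.B_add_left x y c
  map_smul' k x := S.B_smul_left k x c

@[simp] theorem Bl_apply (c x : V) : S.Bl c x = S.B x c := rfl

/-- The trace form. -/
noncomputable def f (x y : V) : F := tr (S.B x y)

theorem f_add_left (x y z : V) : S.f (x + y) z = S.f x z + S.f y z := by
  rw [f, S.B_add_left, map_add]; rfl

theorem f_add_right (x y z : V) : S.f x (y + z) = S.f x y + S.f x z := by
  rw [f, S.B_add_right, map_add]; rfl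

theorem f_smul_left (c : F) (x y : V) : S.f (c • x) y = c * S.f x y := by
  rw [f, ← algebraMap_smul K c x, S.B_smul_left, ← Algebra.smul_def, map_smul]; rfl

theorem f_smul_right (c : F) (x y : V) : S.f x (c • y) = S.σ c * S.f x y := by
  rw [f, ← algebraMap_smul K c y, S.B_smul_right, κ_algebraMap, ← Algebra.smul_def, map_smul]; rfl

theorem f_herm (x y : V) : S.σ (S.f x y) = S.f y x := by rw [f, σ_tr, κB]; rfl

theorem f_symm_zero {x y : V} (h : S.f x y = 0) : S.f y x = 0 := by rw [← f_herm, h, map_zero]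

theorem B_eq_zero_of_f {x y : V} (h : ∀ k : K, S.f (k • x) y = 0) : S.B x y = 0 :=
  eq_zero_of_tr (F := F) fun k => by simpa [f, S.B_smul_left] using h k

/-- `f · v` as a functional. -/
noncomputable def fL (v : V) : V →ₗ[F] F := tr ∘ₗ (S.Bl v).restrictScalars F

@[simp] theorem fL_apply (v x : V) : S.fL v x = S.f x v := rfl

/-- The map preserves `B` and is `K`-linear. -/
def Lin (u : (Module.End F V)ˣ) : Prop :=
  (∀ (k : K) (x : V), (u : Module.End F V) (k • x) = k • (u : Module.End F V) x) ∧
    ∀ x y, S.B ((u : Module.End F V) x) ((u : Module.End F V) y) = S.B x y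

/-- `M` contains the `K`-linear isometries of `F`-determinant one and consists of isometries of the trace form. -/
structure Over (M : Subgroup (Module.End F V)ˣ) : Prop where
  contains : ∀ u : (Module.End F V)ˣ, S.Lin u → LinearMap.det (u : Module.End F V) = 1 → u ∈ M
  iso : ∀ u ∈ M, ∀ x y, S.f ((u : Module.End F V) x) ((u : Module.End F V) y) = S.f x y

/-- `M` contains the transvections of the trace form at `v`. -/
def Root (M : Subgroup (Module.End F V)ˣ) (v : V) : Prop :=
  ∀ l : F, S.σ l = -l → MN M ((l • S.fL v).smulRight v)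

variable {S} {M : Subgroup (Module.End F V)ˣ} [FiniteDimensional F V]

theorem Over.mn_trans (hM : S.Over M) {c : V} (hc : S.B c c = 0) {a : K} (ha : S.Skew a) :
    MN M (((a • S.Bl c).smulRight c).restrictScalars F) := by
  set N := ((a • S.Bl c).smulRight c).restrictScalars F with hN
  have hNa : ∀ x, N x = (a * S.B x c) • c := fun x => rfl
  have h2 : N * N = 0 := LinearMap.ext fun x => by
    rw [Module.End.mul_apply, hNa, hNa, S.B_smul_left, hc]; simp
  refine ⟨h2, ⟨1 + N, 1 - N, ?_, ?_⟩, ?_, rfl⟩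
  · rw [add_mul, one_mul, mul_sub, mul_one, h2]; abel
  · rw [sub_mul, one_mul, mul_add, mul_one, h2]; abel
  · refine hM.contains _ ⟨fun k x => ?_, fun x y => ?_⟩ (det_one_add h2)
    · simp only [LinearMap.add_apply, Module.End.one_apply, hNa, S.B_smul_left, smul_add, smul_smul]
      congr 2
      ring
    · simp only [LinearMap.add_apply, Module.End.one_apply, hNa, S.B_add_left, S.B_add_right, S.B_smul_left,
        S.B_smul_right, hc, map_mul, show S.κ a = -a from ha, κB]
      ring

theorem Over.exists_trans (hM : S.Over M) {c : V} (hc : S.B c c = 0) {a : K} (ha : S.Skew a) :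
    ∃ t ∈ M, ∀ x, (t : Module.End F V) x = x + (a * S.B x c) • c := by
  obtain ⟨-, t, ht, hta⟩ := hM.mn_trans hc ha
  exact ⟨t, ht, fun x => by simp [hta]⟩

/-- Scaling by a unit of `K` of norm one for `κ` and for `F`. -/
structure Good (S : UForm F K V) (l : K) : Prop where
  unit : l * S.κ l = 1
  norm : Algebra.norm F l = 1
  notMem : ∀ a : F, algebraMap F K a ≠ l

theorem det_add_smulRight (φ : V →ₗ[K] K) (u : V) (hu : φ u = 1) (a : K) :
    LinearMap.det ((LinearMap.id + ((a - 1) • φ).smulRight u : V →ₗ[K] V).restrictScalars F) =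
      Algebra.norm F a := by
  haveI : Module.Finite K V := Module.Finite.of_restrictScalars_finite F K V
  haveI : Module.Free F K := Module.Free.of_divisionRing F K
  rw [LinearMap.det_restrictScalars]
  congr 1
  have h := LinearMap.transvection.det ((a - 1) • φ) u
  rw [LinearMap.smul_apply, hu, smul_eq_mul, mul_one, add_sub_cancel] at h
  exact (congrArg LinearMap.det (LinearMap.ext fun x => rfl)).trans h

end UForm

end Cfsg.Agent.H58.SUExt
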