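import Cfsg.Agent.H58.SUExt.Spread
import Cfsg.Agent.Unitary.AschField

/-!
A root group from a hyperplane configuration over the field of four elements, degree three or five.
-/

set_option autoImplicit false
set_option linter.unusedSectionVars false
set_option linter.style.haveILetI false
set_option linter.unusedVariables false

namespace Cfsg.Agent.H58.SUExt

open Module

section Finite

variable {K : Type*} [Field K] [Fintype K]

theorem addSubgroup_top {N : ℕ} (hK : Fintype.card K = 2 ^ N) (A : AddSubgroup K) {a : K}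
    (hA : ∀ x ∈ A, a * x ∈ A) (hord : ∀ k < N, k ≠ 0 → ¬ orderOf a ∣ 2 ^ k - 1) (ha : a ≠ 0) {x : K} (hx : x ∈ A)
    (hx0 : x ≠ 0) : A = ⊤ := by
  classical
  let T : Subring K :=
    { carrier := {k | ∀ y ∈ A, k * y ∈ A}
      mul_mem' := fun {k l} hk hl y hy => by rw [mul_assoc]; exact hk _ (hl y hy)
      one_mem' := fun y hy => by rwa [one_mul]
      add_mem' := fun {k l} hk hl y hy => by rw [add_mul]; exact A.add_mem (hk y hy) (hl y hy)
      zero_mem' := fun y hy => by rw [zero_mul]; exact A.zero_mem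
      neg_mem' := fun {k} hk y hy => by rw [neg_mul]; exact A.neg_mem (hk y hy) }
  letI : Field T := (Finite.isField_of_domain T).toField
  have hcard : Fintype.card K = Fintype.card T ^ finrank T K := Module.card_eq_pow_finrank
  haveI : Module.Finite T K := Module.Finite.of_finite
  obtain ⟨k, hk, hkT⟩ : ∃ k ≤ N, Fintype.card T = 2 ^ k := by
    refine (Nat.dvd_prime_pow Nat.prime_two).1 ?_
    rw [← hK, hcard]
    exact dvd_pow_self _ (finrank_pos).ne'
  have hpow : a ^ (2 ^ k - 1) = 1 := by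
    have h1 := FiniteField.pow_card_sub_one_eq_one (⟨a, hA⟩ : T) (fun h => ha (congrArg Subtype.val h))
    rw [hkT] at h1
    simpa using congrArg Subtype.val h1
  have hkN : k = N := by
    rcases hk.lt_or_eq with h | h
    · refine absurd (orderOf_dvd_of_pow_eq_one hpow) (hord k h ?_)
      rintro rfl
      have := Fintype.one_lt_card (α := T)
      simp [hkT] at this
    · exact h
  subst hkN
  have htop : ∀ z : K, z ∈ T := fun z => by
    obtain ⟨w, hw⟩ := ((Fintype.bijective_iff_injective_and_card (Subtype.val : T → K)).2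
      ⟨Subtype.val_injective, by rw [hK, hkT]⟩).2 z
    exact hw ▸ w.2
  rw [eq_top_iff]
  intro y _
  simpa [hx0] using htop (y / x) x hx

theorem addSubgroup_top_pair {N : ℕ} (hK : Fintype.card K = 2 ^ N) (A : AddSubgroup (K × K)) {a b : K}
    (hA : ∀ x ∈ A, (a * x.1, b * x.2) ∈ A) (hconj : ∀ j : ℕ, a ^ 2 ^ j ≠ b)
    (horda : ∀ k < N, k ≠ 0 → ¬ orderOf a ∣ 2 ^ k - 1) (hordb : ∀ k < N, k ≠ 0 → ¬ orderOf b ∣ 2 ^ k - 1)
    (ha : a ≠ 0) (hb : b ≠ 0) {x : K × K} (hx : x ∈ A) (hx1 : x.1 ≠ 0) (hx2 : x.2 ≠ 0) : A = ⊤ := by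
  classical
  haveI : Fact (Nat.Prime 2) := ⟨Nat.prime_two⟩
  haveI : CharP K 2 := by
    obtain ⟨p, hp⟩ := CharP.exists K
    obtain ⟨n, hpp, hn⟩ := FiniteField.card K p
    have h2 : p ∣ 2 ^ N := by rw [← hK, hn]; exact dvd_pow_self _ n.pos.ne'
    rwa [← (Nat.prime_dvd_prime_iff_eq hpp Nat.prime_two).1 (hpp.dvd_of_dvd_pow h2)]
  letI : Algebra (ZMod 2) K := ZMod.algebra K 2
  let T : Subring (K × K) :=
    { carrier := {k | ∀ y ∈ A, k * y ∈ A}
      mul_mem' := fun {k l} hk hl y hy => by rw [mul_assoc]; exact hk _ (hl y hy)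
      one_mem' := fun y hy => by rwa [one_mul]
      add_mem' := fun {k l} hk hl y hy => by rw [add_mul]; exact A.add_mem (hk y hy) (hl y hy)
      zero_mem' := fun y hy => by rw [zero_mul]; exact A.zero_mem
      neg_mem' := fun {k} hk y hy => by rw [neg_mul]; exact A.neg_mem (hk y hy) }
  have hab : ((a, b) : K × K) ∈ T := fun y hy => hA y hy
  set P := minpoly (ZMod 2) a with hP
  have hPT : ((Polynomial.aeval a P, Polynomial.aeval b P) : K × K) ∈ T := by
    clear_value P
    clear hP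
    induction P using Polynomial.induction_on with
    | C c =>
      rw [Polynomial.aeval_C, Polynomial.aeval_C]
      have : algebraMap (ZMod 2) K c = ((c.val : ℕ) : K) := by
        rw [← map_natCast (algebraMap (ZMod 2) K), ZMod.natCast_zmod_val]
      rw [this, show (((c.val : ℕ) : K), ((c.val : ℕ) : K)) = ((c.val : ℕ) : K × K) from rfl]
      exact natCast_mem T c.val
    | add p p' h h' => simpa using T.add_mem h h'
    | monomial m c h =>
      have := T.mul_mem h hab
      simpa [pow_succ, mul_assoc] using this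
  rw [minpoly.aeval] at hPT
  have hPb : Polynomial.aeval b P ≠ 0 := by
    intro h0
    have hconjroot : IsConjRoot (ZMod 2) a b := isConjRoot_of_aeval_eq_zero (IsIntegral.of_finite _ _) h0
    obtain ⟨ψ, hψ⟩ := isConjRoot_iff_exists_algEquiv.1 hconjroot
    obtain ⟨j, hj⟩ := Cfsg.Agent.Unitary.Asch.exists_pow_char 2 ψ.toRingEquiv
    have h1 : b ^ 2 ^ j = a := by rw [← hj]; exact hψ
    -- invert the power
    refine hconj (j * (N - 1)) ?_
    have h2 : ∀ z : K, ∀ i : ℕ, (z ^ 2 ^ (N * i)) = z := fun z i => by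
      rw [pow_mul 2, ← hK, FiniteField.pow_card_pow]
    rcases Nat.eq_zero_or_pos N with hN | hN
    · have : Fintype.card K = 1 := by rw [hK, hN, pow_zero]
      have := Fintype.one_lt_card (α := K)
      omega
    rw [← h1, ← pow_mul, ← pow_add, show j + j * (N - 1) = N * j by
      rw [Nat.mul_sub, mul_one, mul_comm N j]
      have := Nat.le_mul_of_pos_right j hN
      omega]
    exact h2 b j
  have h0 : ((0 : K), Polynomial.aeval b P * x.2) ∈ A := by
    simpa [Prod.mul_def] using hPT x hx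
  let A₂ : AddSubgroup K := A.comap (AddMonoidHom.inr K K)
  have hA₂ : A₂ = ⊤ := addSubgroup_top hK A₂ (a := b)
    (fun y hy => by
      show ((0 : K), b * y) ∈ A
      simpa using hA _ (show ((0 : K), y) ∈ A from hy)) hordb hb (x := Polynomial.aeval b P * x.2) h0
    (mul_ne_zero hPb hx2)
  have hzero : ∀ y, ((0 : K), y) ∈ A := fun y => (hA₂ ▸ AddSubgroup.mem_top y : y ∈ A₂)
  let A₁ : AddSubgroup K := A.comap (AddMonoidHom.inl K K)
  have hA₁ : A₁ = ⊤ := addSubgroup_top hK A₁ (a := a)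
    (fun y hy => by
      show (a * y, (0 : K)) ∈ A
      simpa using hA _ (show (y, (0 : K)) ∈ A from hy)) horda ha (x := x.1)
    (show (x.1, (0 : K)) ∈ A by
      have he : x - ((0 : K), x.2) = (x.1, 0) := by ext <;> simp
      exact he ▸ A.sub_mem hx (hzero x.2)) hx1
  rw [eq_top_iff]
  rintro ⟨y, z⟩ _
  simpa using A.add_mem (show (y, (0 : K)) ∈ A from (hA₁ ▸ AddSubgroup.mem_top y : y ∈ A₁)) (hzero z)

/-- Three terms: a nonzero expression has no three independent roots. -/
theorem three_term {F : Type*} [Field F] [Algebra F K] (φ : K →+* K)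
    (hfix : ∀ x, φ x = x → ∃ a : F, algebraMap F K a = x) (hφF : ∀ a : F, φ (algebraMap F K a) = algebraMap F K a)
    {A B C : K} {z : Fin 3 → K} (hz : LinearIndependent F z)
    (h : ∀ i, A * φ (φ (z i)) + B * φ (z i) + C * z i = 0) : A = 0 ∧ B = 0 ∧ C = 0 := by
  have hz0 : z 0 ≠ 0 := hz.ne_zero 0
  have hγ : ∀ i : Fin 3, ∃ γ, z i = z 0 * γ := fun i => ⟨z i / z 0, (mul_div_cancel₀ _ hz0).symm⟩
  choose γ hγ using hγ
  have hli : ∀ (s t u : F), algebraMap F K s + algebraMap F K t * γ 1 + algebraMap F K u * γ 2 = 0 → t = 0 ∧ u = 0 := by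
    intro s t u hsum
    have h1 := Fintype.linearIndependent_iff.1 hz ![s, t, u] (by
      rw [Fin.sum_univ_three]
      simp only [Algebra.smul_def, Matrix.cons_val_zero, Matrix.cons_val_one, Matrix.cons_val]
      rw [hγ 1, hγ 2]
      linear_combination z 0 * hsum)
    exact ⟨h1 1, h1 2⟩
  set a' := A * φ (φ (z 0)) with ha'
  set b' := B * φ (z 0) with hb'
  have hδ : ∀ i, a' * (φ (φ (γ i) - γ i) + (φ (γ i) - γ i)) + b' * (φ (γ i) - γ i) = 0 := fun i => by
    have h1 := h i
    rw [hγ i, map_mul, map_mul] at h1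
    rw [map_sub]
    linear_combination h1 - γ i * h 0
  have hne : φ (γ 1) - γ 1 ≠ 0 := fun h0 => by
    obtain ⟨s, hs⟩ := hfix _ (sub_eq_zero.1 h0)
    exact one_ne_zero (hli (-s) 1 0 (by simp [hs])).1
  have hA0 : a' = 0 := by
    by_contra ha
    set ρ := (φ (γ 2) - γ 2) / (φ (γ 1) - γ 1) with hρ
    have hφρ : φ ρ = ρ := by
      have e1 := hδ 1
      have e2 := hδ 2
      set d₁ := φ (γ 1) - γ 1
      set d₂ := φ (γ 2) - γ 2
      have hφ1 : φ d₁ ≠ 0 := (map_ne_zero φ).2 hne
      rw [hρ, map_div₀, div_eq_div_iff hφ1 hne]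
      refine mul_left_cancel₀ ha ?_
      linear_combination d₁ * e2 - d₂ * e1
    obtain ⟨s, hs⟩ := hfix ρ hφρ
    have h2 : φ (γ 2 - algebraMap F K s * γ 1) = γ 2 - algebraMap F K s * γ 1 := by
      rw [map_sub, map_mul, hφF, hs]
      have hd := div_mul_cancel₀ (φ (γ 2) - γ 2) hne
      rw [← hρ] at hd
      linear_combination -hd
    obtain ⟨t, ht⟩ := hfix _ h2
    exact one_ne_zero (hli (-t) (-s) 1 (by
      simp only [map_neg, map_one, one_mul]
      linear_combination -ht)).2
  have hB0 : b' = 0 := by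
    have e1 := hδ 1
    rw [hA0, zero_mul, zero_add] at e1
    exact (mul_eq_zero.1 e1).resolve_right hne
  have hC : C = 0 := by
    have e0 := h 0
    rw [← ha', ← hb', hA0, hB0, zero_add, zero_add] at e0
    exact (mul_eq_zero.1 e0).resolve_right hz0
  exact ⟨(mul_eq_zero.1 hA0).resolve_right ((map_ne_zero φ).2 ((map_ne_zero φ).2 hz0)),
    (mul_eq_zero.1 hB0).resolve_right ((map_ne_zero φ).2 hz0), hC⟩

end Finite

namespace UForm

open Cfsg.Agent.H98.ExtField

variable {F : Type*} [Field F] [Fintype F] {K : Type*} [Field K] [Fintype K] [Algebra F K]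
  {V : Type*} [AddCommGroup V] [Module F V] [Module K V] [IsScalarTower F K V] [FiniteDimensional F V]
  {S : UForm F K V} {M : Subgroup (Module.End F V)ˣ}

/-- Invariance of `InR` under a torus. -/
theorem InR.torus (hM : S.Over M) {w : V} {Φ : K → K} (h : S.InR M w Φ) {t : (Module.End F V)ˣ} (ht : t ∈ M)
    {s : K} (hlin : ∀ (k : K) (x : V), (t : Module.End F V) (k • x) = k • (t : Module.End F V) x)
    (htw : (t : Module.End F V) w = s • w) : S.InR M w (fun β => s * Φ (S.κ s * β)) := by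
  obtain ⟨N, hN, hNx⟩ := h
  refine ⟨_, hN.conj ht, fun x => ?_⟩
  have hB : S.B (((t⁻¹ : (Module.End F V)ˣ) : Module.End F V) x) w = S.κ s * S.B x w := by
    refine sub_eq_zero.1 (eq_zero_of_tr (F := F) fun k => ?_)
    have h1 := hM.iso t ht (k • ((t⁻¹ : (Module.End F V)ˣ) : Module.End F V) x) w
    rw [hlin, apply_inv, htw, f, f, S.B_smul_left, S.B_smul_right, S.B_smul_left] at h1
    rw [mul_sub, map_sub, ← h1, sub_self]
  rw [Module.End.mul_apply, Module.End.mul_apply, hNx, hlin, htw, hB, smul_smul, mul_comm]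

theorem two_eq_zero (S : UForm F K V) (hq : S.q = 2) : (2 : K) = 0 := by
  have h : ringChar K = 2 := by
    rw [FiniteField.even_card_iff_char_two, S.hK, hq]
    simp [Nat.pow_mod, (S.r_pos).ne']
  haveI := ringChar.charP K
  exact_mod_cast (h ▸ CharP.cast_eq_zero K (ringChar K) : ((2 : ℕ) : K) = 0)

theorem mem_range_of_pow_four (S : UForm F K V) (hq : S.q = 2) {x : K} (hx : x ^ 4 = x) :
    ∃ a : F, algebraMap F K a = x := by
  classical
  have hroots : (Finset.univ.filter fun y : K => y ^ 4 = y).card ≤ 4 := by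
    have hne : (Polynomial.X ^ 4 - Polynomial.X : Polynomial K) ≠ 0 :=
      FiniteField.X_pow_card_sub_X_ne_zero K (by norm_num)
    calc _ ≤ (Polynomial.X ^ 4 - Polynomial.X : Polynomial K).roots.toFinset.card :=
          Finset.card_le_card fun y hy => by
            simp only [Finset.mem_filter] at hy
            rw [Multiset.mem_toFinset, Polynomial.mem_roots hne]
            simp [hy.2]
      _ ≤ _ := (Multiset.toFinset_card_le _).trans ((Polynomial.card_roots' _).trans
          (le_of_eq (FiniteField.X_pow_card_sub_X_natDegree_eq K (by norm_num))))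
  have heq : Finset.univ.image (algebraMap F K) = Finset.univ.filter fun y : K => y ^ 4 = y := by
    refine Finset.eq_of_subset_of_card_le (fun y hy => ?_) ?_
    · obtain ⟨a, -, rfl⟩ := Finset.mem_image.1 hy
      simp only [Finset.mem_filter, Finset.mem_univ, true_and]
      rw [← map_pow, show (4 : ℕ) = Fintype.card F by rw [S.hF, hq]; norm_num, FiniteField.pow_card]
    · rw [Finset.card_image_of_injective _ (algebraMap F K).injective, Finset.card_univ, S.hF, hq]
      exact hroots
  have : x ∈ Finset.univ.image (algebraMap F K) := by rw [heq]; simp [hx]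
  obtain ⟨a, -, ha⟩ := Finset.mem_image.1 this
  exact ⟨a, ha⟩

namespace Pair

variable {w : V} {i y : K} (P : S.Pair M w i y)

include P

/-- An element of rank two in the root group of the line. -/
theorem exists_E (hM : S.Over M) (hq : S.q = 2) (hr : 3 ≤ finrank F K) :
    ∃ (u : K) (e : F), algebraMap F K e ^ 2 = algebraMap F K e ∧ S.κ (algebraMap F K e) = algebraMap F K e ∧
      S.InR M w (fun β => (algebraMap F K (tr (β * S.κ i) : F)) * u + algebraMap F K (tr (β * S.κ u) : F) * i +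
        algebraMap F K (tr (β * S.κ i) : F) * algebraMap F K e * i) ∧
      ∃ β, (tr (β * S.κ i) : F) = 0 ∧ (tr (β * S.κ u) : F) ≠ 0 := by
  have h2 := S.two_eq_zero hq
  have hneg : ∀ z : K, -z = z := fun z => neg_eq_iff_add_eq_zero.2 (by rw [← two_mul, h2, zero_mul])
  obtain ⟨a, ha, hau⟩ : ∃ a : K, S.Skew a ∧ ∀ c : F, algebraMap F K c * i ≠ a * y := by
    by_contra hcon
    push Not at hcon
    choose c hc using hcon
    have := Nat.card_le_card_of_injective (fun a : {a : K // S.Skew a} => c a.1 a.2) fun a b hab =>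
      Subtype.ext (mul_right_cancel₀ P.y_ne (by rw [← hc a.1 a.2, ← hc b.1 b.2, show c a.1 a.2 = c b.1 b.2 from hab]))
    rw [card_skew, Nat.card_eq_fintype_card, S.hF, hq] at this
    have := Nat.pow_lt_pow_right (a := 2) one_lt_two (show 2 < finrank F K by omega)
    omega
  have hea : S.σ (tr (a * (y * S.κ y))) = -(tr (a * (y * S.κ y))) := by
    rw [σ_tr, map_mul S.κ, map_mul S.κ, κκ, show S.κ a = -a from ha, neg_mul, map_neg, mul_comm (S.κ y)]
  refine ⟨a * y, tr (a * (y * S.κ y)), ?_, ?_, ?_, ?_⟩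
  · rw [← map_pow, ← hq, ← σ_apply, hea, map_neg, hneg]
  · rw [κ_algebraMap, hea, map_neg, hneg]
  · refine ((P.mem_E hM (c := 1) (map_one _) ha).sub P.iso P.w_ne (hM.inR_trans P.iso ha)).congr fun β => ?_
    rw [show β * S.κ (a * y) = a * β * S.κ y by rw [map_mul, show S.κ a = -a from ha, hneg]; ring]
    simp only [one_mul, Algebra.smul_def, map_mul]
    ring
  · by_contra hcon
    push Not at hcon
    -- the two functionals are proportional
    obtain ⟨β₁, hβ₁⟩ : ∃ β : K, (tr (β * S.κ i) : F) ≠ 0 := by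
      by_contra h0
      push Not at h0
      exact P.i_ne (by simpa using eq_zero_of_tr (F := F) h0)
    set c := (tr (β₁ * S.κ (a * y)) : F) / tr (β₁ * S.κ i) with hc
    refine hau (S.σ c) ?_
    have h3 : S.κ (a * y) = algebraMap F K c * S.κ i := by
      refine sub_eq_zero.1 (eq_zero_of_tr (F := F) fun β => ?_)
      have h1 := hcon (β - ((tr (β * S.κ i) : F) / tr (β₁ * S.κ i)) • β₁) (by
        rw [sub_mul, map_sub, smul_mul_assoc, map_smul, smul_eq_mul, div_mul_cancel₀ _ hβ₁, sub_self])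
      rw [sub_mul, map_sub, smul_mul_assoc, map_smul, smul_eq_mul, sub_eq_zero] at h1
      rw [mul_sub, map_sub, h1, ← Algebra.smul_def, mul_smul_comm, map_smul, smul_eq_mul, hc]
      ring
    have h4 := congrArg S.κ h3
    rw [κκ, map_mul S.κ, κ_algebraMap, κκ] at h4
    exact h4.symm

theorem root_two_three (hM : S.Over M) (hq : S.q = 2) (hr : finrank F K = 3) (hm : 3 ≤ finrank K V) :
    S.Root M (i • w) := by
  have h2 := S.two_eq_zero hq
  have hκ : ∀ z : K, S.κ z = z ^ 8 := fun z => by rw [κ_apply, hq, hr]; norm_num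
  have hcard : Fintype.card K = 2 ^ 6 := by rw [S.hK, hq, hr]; norm_num
  have h64 : ∀ z : K, z ^ 64 = z := fun z => by
    have := FiniteField.pow_card z
    rwa [hcard] at this
  haveI : CharP K 2 := CharTwo.of_one_ne_zero_of_two_eq_zero one_ne_zero h2
  haveI : Fact (Nat.Prime 2) := ⟨Nat.prime_two⟩
  have hp16 : ∀ a b : K, (a + b) ^ 16 = a ^ 16 + b ^ 16 := fun a b => add_pow_char_pow (p := 2) (n := 4) a b
  have htr : ∀ z : K, algebraMap F K (tr z : F) = z + z ^ 4 + z ^ 16 := fun z => by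
    rw [FiniteField.algebraMap_trace_eq_sum_pow, hr, Nat.card_eq_fintype_card, S.hF, hq]
    simp [Finset.sum_range_succ]
  set Q : K → K → K := fun c β => c * β ^ 4 + S.κ c ^ 16 * β ^ 16 with hQ
  have hQadd : ∀ c d β, Q (c + d) β = Q c β + Q d β := fun c d β => by
    simp only [hQ, map_add, hp16]; ring
  have hQ0 : ∀ β, Q 0 β = 0 := fun β => by simp [hQ]
  let R : AddSubgroup K :=
    { carrier := {c | S.InR M w (Q c)}
      add_mem' := fun {c d} hc hd => (hc.add P.iso P.w_ne hd).congr fun β => (hQadd c d β).symm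
      zero_mem' := ⟨0, MN.zero, fun x => by simp [hQ0]⟩
      neg_mem' := fun {c} hc => by
        rwa [show -c = c from neg_eq_iff_add_eq_zero.2 (by rw [← two_mul, h2, zero_mul])] }
  obtain ⟨g, hg⟩ := IsCyclic.exists_generator (α := Kˣ)
  have hordg : orderOf (g : K) = 63 := by
    rw [orderOf_units, orderOf_eq_card_of_forall_mem_zpowers hg, Nat.card_units, Nat.card_eq_fintype_card, hcard]
    norm_num
  have hR : ∀ c ∈ R, (g : K) ^ 33 * c ∈ R := by
    intro c hc
    obtain ⟨y', hy', hwy⟩ := S.exists_partner P.iso P.w_ne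
    obtain ⟨u, hu⟩ : ∃ u, S.B u u ≠ 0 ∧ S.B u w = 0 ∧ S.B u y' = 0 := by
      have Pr := projPair_proj P.iso hy' hwy
      have hyw : S.B y' w = 1 := by rw [← κB, hwy, map_one]
      classical
      haveI : Module.Finite K V := Module.Finite.of_restrictScalars_finite F K V
      obtain ⟨x, hx⟩ : ∃ x, x ∉ Submodule.span K {w, y'} := by
        by_contra hc
        push Not at hc
        have h1 : finrank K V ≤ 2 := by
          rw [← finrank_top K V, show (⊤ : Submodule K V) = Submodule.span K ↑({w, y'} : Finset V) by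
            rw [Finset.coe_pair]; exact (eq_top_iff.2 fun z _ => hc z).symm]
          exact (finrank_span_finset_le_card _).trans Finset.card_le_two
        omega
      set pr := S.projPair w y' with hpr
      have hperp : ∀ z, pr z = z → S.B z w = 0 ∧ S.B z y' = 0 := fun z hz => by
        constructor
        · rw [← hz, Pr.sa, hpr, projPair_left P.iso hwy, B_zero_right]
        · rw [← hz, Pr.sa, show pr y' = 0 by simp [hpr, projPair_apply, hy', hyw], B_zero_right]
      set p := pr x with hp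
      have hp0 : p ≠ 0 := fun h0 => hx (Submodule.mem_span_pair.2 ⟨S.B x y', S.B x w, by
        rw [hp, hpr, projPair_apply, sub_sub, sub_eq_zero] at h0
        exact h0.symm⟩)
      by_cases hpp : S.B p p = 0
      swap
      · exact ⟨p, hpp, hperp p (Pr.idem x)⟩
      obtain ⟨z, hz⟩ := S.exists_partner_left hp0
      have hpz : S.B p (pr z) ≠ 0 := by rwa [← Pr.sa, hp, Pr.idem]
      have hzp : S.B (pr z) p ≠ 0 := fun h0 => hpz (S.symm_zero h0)
      obtain ⟨j, hj⟩ := S.exists_half (n := 1 - S.B (pr z) (pr z)) (by rw [map_sub, map_one, κB])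
      refine ⟨pr z + (j / S.B p (pr z)) • p, ?_, hperp _ (by rw [map_add, map_smul, Pr.idem, hp, Pr.idem])⟩
      simp only [S.B_add_left, S.B_add_right, S.B_smul_left, S.B_smul_right, hpp, map_div₀, κB,
        div_mul_cancel₀ _ hpz, div_mul_cancel₀ _ hzp]
      intro h1
      exact one_ne_zero (show (1 : K) = 0 by linear_combination h1 - hj)
    obtain ⟨t, ht, hlin, htw, -⟩ := hM.exists_torus P.iso hy' hwy g.ne_zero (Or.inr ⟨u, hu⟩)
    refine (InR.torus hM hc ht hlin htw).congr fun β => ?_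
    simp only [hQ, hκ]
    have e := h64 (g : K)
    simp only [mul_pow, ← pow_mul]
    norm_num
    rw [show (g : K) ^ 4224 = (g ^ 64) ^ 66 by rw [← pow_mul], e,
      show (g : K) ^ 128 = (g ^ 64) ^ 2 by rw [← pow_mul], e,
      show (g : K) ^ 66 = g ^ 64 * g ^ 2 by rw [← pow_add], e]
    ring
  obtain ⟨u, e, he2, heκ, hE, β₁, hβ₁, hβ₁u⟩ := P.exists_E hM hq (by omega)
  set E := algebraMap F K e with hEdef
  set j := S.κ i with hj
  set v := S.κ u with hv
  set c₁ := j ^ 4 * u + v ^ 4 * i + j ^ 4 * E * i with hc₁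
  have he4 : E ^ 4 = E := by rw [show (4 : ℕ) = 2 * 2 from rfl, pow_mul, he2, he2]
  have he16 : E ^ 16 = E := by rw [show (16 : ℕ) = 4 * 4 from rfl, pow_mul, he4, he4]
  have hc₂ : S.κ c₁ ^ 16 = j ^ 16 * u + v ^ 16 * i + j ^ 16 * E * i := by
    simp only [hc₁, hj, hv, map_add, map_mul, map_pow, κκ, heκ, hp16]
    simp only [mul_pow, ← pow_mul]
    norm_num
    rw [h64 i, h64 u, he16]
    ring
  set c₀ := j * u + v * i + j * E * i with hc₀
  have hc₀s : S.Skew c₀ := by
    show S.κ c₀ = -c₀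
    simp only [hc₀, hj, hv, map_add, map_mul, κκ, heκ]
    linear_combination (i * S.κ u + u * S.κ i + E * i * S.κ i) * h2
  have hdec : S.InR M w (Q c₁) := by
    refine (hE.sub P.iso P.w_ne (hM.inR_trans P.iso hc₀s)).congr fun β => ?_
    simp only [hQ]
    rw [hc₂]
    simp only [htr, hc₁, hc₀]
    ring
  have hc₁0 : c₁ ≠ 0 := by
    intro h0
    set L : K →ₗ[F] F × F := (tr ∘ₗ LinearMap.mulRight F j).prod (tr ∘ₗ LinearMap.mulRight F v)
    obtain ⟨β₀, hβ₀, hβ₀0⟩ := (LinearMap.ker L).ne_bot_iff.1 fun h => by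
      have h1 := L.finrank_range_add_finrank_ker
      rw [h, finrank_bot, hr] at h1
      have h3 := Submodule.finrank_le (LinearMap.range L)
      rw [Module.finrank_prod, Module.finrank_self] at h3
      omega
    obtain ⟨z1, z2⟩ := Prod.mk.injEq .. ▸ (show L β₀ = (0, 0) from hβ₀)
    have z1' : (tr (β₀ * j) : F) = 0 := z1
    have z2' : (tr (β₀ * v) : F) = 0 := z2
    have hid : ∀ β, algebraMap F K (tr (β * j) : F) * u + algebraMap F K (tr (β * v) : F) * i +
        algebraMap F K (tr (β * j) : F) * E * i = c₀ * β := fun β => by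
      have h16 : j ^ 16 * u + v ^ 16 * i + j ^ 16 * E * i = 0 := by rw [← hc₂, h0]; simp
      have h4 : j ^ 4 * u + v ^ 4 * i + j ^ 4 * E * i = 0 := hc₁ ▸ h0
      simp only [htr, hc₀]
      linear_combination β ^ 4 * h4 + β ^ 16 * h16
    have h00 := hid β₀
    rw [z1', z2', map_zero] at h00
    have hc00 : c₀ = 0 := by
      simp only [zero_mul, add_zero] at h00
      exact (mul_eq_zero.1 h00.symm).resolve_right hβ₀0
    have h11 := hid β₁
    rw [hβ₁, hc00, map_zero, zero_mul, zero_mul, zero_mul, zero_add, add_zero] at h11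
    exact hβ₁u (by simpa [P.i_ne] using h11)
  have htop : R = ⊤ := addSubgroup_top hcard R hR (fun k hk hk0 h => by
    rw [orderOf_pow' _ (by norm_num : 33 ≠ 0), hordg] at h
    norm_num at h
    interval_cases k <;> first | exact absurd rfl hk0 | norm_num at h) (pow_ne_zero _ g.ne_zero) hdec hc₁0
  refine P.root_of_inR fun l hl => ?_
  have hl2 : algebraMap F K l ^ 2 = algebraMap F K l := by
    rw [← map_pow, ← hq, ← σ_apply, hl, map_neg]
    exact neg_eq_iff_add_eq_zero.2 (by rw [← two_mul, h2, zero_mul])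
  set L := algebraMap F K l with hLdef
  have hLκ : S.κ L = L := by
    rw [hκ, show (8 : ℕ) = 2 * (2 * 2) from rfl, pow_mul, hl2, pow_mul, hl2, hl2]
  have hl16 : L ^ 16 = L := by
    rw [show (16 : ℕ) = 2 * (2 * (2 * 2)) from rfl, pow_mul, hl2, pow_mul, hl2, pow_mul, hl2, hl2]
  have hmem : L * (j ^ 4 * i) ∈ R := htop ▸ AddSubgroup.mem_top _
  have hs : S.Skew (L * (j * i)) := by
    show S.κ _ = -_
    rw [map_mul, map_mul, hLκ, hj, κκ]
    linear_combination (L * i * S.κ i) * h2
  refine (hM.inR_trans P.iso hs).add P.iso P.w_ne hmem |>.congr fun β => ?_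
  simp only [hQ, Algebra.smul_def, map_mul, htr, ← hj, ← hLdef]
  rw [show S.κ L * (S.κ (j ^ 4) * S.κ i) = L * (i ^ 4 * j) by rw [hLκ, map_pow, hj, κκ]]
  simp only [mul_pow, ← pow_mul]
  norm_num
  rw [h64 i, hl16]
  ring

set_option maxHeartbeats 1600000 in
theorem root_two_five (hM : S.Over M) (hq : S.q = 2) (hr : finrank F K = 5) : S.Root M (i • w) := by
  have h2 := S.two_eq_zero hq
  have hκ : ∀ z : K, S.κ z = z ^ 32 := fun z => by rw [κ_apply, hq, hr]; norm_num
  have hcard : Fintype.card K = 2 ^ 10 := by rw [S.hK, hq, hr]; norm_num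
  have h1024 : ∀ z : K, z ^ 1024 = z := fun z => by
    have := FiniteField.pow_card z
    rwa [hcard] at this
  haveI : CharP K 2 := CharTwo.of_one_ne_zero_of_two_eq_zero one_ne_zero h2
  haveI : Fact (Nat.Prime 2) := ⟨Nat.prime_two⟩
  have hp : ∀ (n : ℕ) (a b : K), (a + b) ^ 2 ^ n = a ^ 2 ^ n + b ^ 2 ^ n := fun n a b => add_pow_char_pow a b 2 n
  have hp64 : ∀ a b : K, (a + b) ^ 64 = a ^ 64 + b ^ 64 := hp 6
  have hp256 : ∀ a b : K, (a + b) ^ 256 = a ^ 256 + b ^ 256 := hp 8
  have htr : ∀ z : K, algebraMap F K (tr z : F) = z + z ^ 4 + z ^ 16 + z ^ 64 + z ^ 256 := fun z => by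
    rw [FiniteField.algebraMap_trace_eq_sum_pow, hr, Nat.card_eq_fintype_card, S.hF, hq]
    simp [Finset.sum_range_succ]
  set Q : K × K → K → K :=
    fun c β => c.1 * β ^ 4 + S.κ c.1 ^ 256 * β ^ 256 + c.2 * β ^ 16 + S.κ c.2 ^ 64 * β ^ 64 with hQ
  have hneg : ∀ z : K, -z = z := fun z => neg_eq_iff_add_eq_zero.2 (by rw [← two_mul, h2, zero_mul])
  let R : AddSubgroup (K × K) :=
    { carrier := {c | S.InR M w (Q c)}
      add_mem' := fun {c d} hc hd => (hc.add P.iso P.w_ne hd).congr fun β => by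
        simp only [hQ, Prod.fst_add, Prod.snd_add, map_add, hp64, hp256]; ring
      zero_mem' := ⟨0, MN.zero, fun x => by simp [hQ]⟩
      neg_mem' := fun {c} hc => by
        rwa [show -c = c from Prod.ext (hneg _) (hneg _)] }
  obtain ⟨g, hg⟩ := IsCyclic.exists_generator (α := Kˣ)
  have hordg : orderOf (g : K) = 1023 := by
    rw [orderOf_units, orderOf_eq_card_of_forall_mem_zpowers hg, Nat.card_units, Nat.card_eq_fintype_card, hcard]
    norm_num
  have hg1 : (g : K) ^ 1023 = 1 := hordg ▸ pow_orderOf_eq_one _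
  set s := (g : K) ^ 3 with hs
  have hs1 : s ^ 341 = 1 := by rw [hs, ← pow_mul]; exact hg1
  have hR : ∀ c ∈ R, (s ^ 129 * c.1, s ^ 513 * c.2) ∈ R := by
    intro c hc
    obtain ⟨y', hy', hwy⟩ := S.exists_partner P.iso P.w_ne
    have hnorm : ∀ z : K, z ^ 341 = 1 → Algebra.norm F z = 1 := fun z hz => by
      refine (algebraMap F K).injective ?_
      rw [FiniteField.algebraMap_norm_eq_pow_sum, map_one, hr, Nat.card_eq_fintype_card, S.hF, hq,
        show (∑ i ∈ Finset.range 5, (2 ^ 2) ^ i) = 341 by decide, hz]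
    obtain ⟨t, ht, hlin, htw, -⟩ := hM.exists_torus P.iso hy' hwy (pow_ne_zero 3 g.ne_zero)
      (Or.inl (by rw [hnorm _ hs1, hnorm _ (by rw [← map_pow, hs1, map_one])]))
    refine (InR.torus hM hc ht hlin htw).congr fun β => ?_
    obtain ⟨c1, c2⟩ := c
    simp only [hQ, ← hs, map_mul, map_pow]
    have hr1 : ∀ n, s ^ (341 * n) = 1 := fun n => by rw [pow_mul, hs1, one_pow]
    simp only [hκ, mul_pow, ← pow_mul]
    norm_num
    rw [show s ^ 8192 = s ^ 8 by rw [show 8192 = 341 * 24 + 8 from rfl, pow_add, hr1, one_mul],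
      show s ^ 1056768 = s ^ 9 by rw [show 1056768 = 341 * 3099 + 9 from rfl, pow_add, hr1, one_mul],
      show s ^ 512 = s ^ 171 by rw [show 512 = 341 * 1 + 171 from rfl, pow_add, hr1, one_mul],
      show s ^ 513 = s ^ 172 by rw [show 513 = 341 * 1 + 172 from rfl, pow_add, hr1, one_mul],
      show s ^ 2048 = s ^ 2 by rw [show 2048 = 341 * 6 + 2 from rfl, pow_add, hr1, one_mul],
      show s ^ 1050624 = s ^ 3 by rw [show 1050624 = 341 * 3081 + 3 from rfl, pow_add, hr1, one_mul]]
    ring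
  obtain ⟨u, e, he2, heκ, hE, β₁, hβ₁, hβ₁u⟩ := P.exists_E hM hq (by omega)
  set E := algebraMap F K e with hEdef
  set j := S.κ i with hj
  set v := S.κ u with hv
  set c₁ := j ^ 4 * u + v ^ 4 * i + j ^ 4 * E * i with hc₁
  set c₂ := j ^ 16 * u + v ^ 16 * i + j ^ 16 * E * i with hc₂def
  set c₀ := j * u + v * i + j * E * i with hc₀
  have he4 : E ^ 4 = E := by rw [show (4 : ℕ) = 2 * 2 from rfl, pow_mul, he2, he2]
  have he16 : E ^ 16 = E := by rw [show (16 : ℕ) = 4 * 4 from rfl, pow_mul, he4, he4]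
  have he64 : E ^ 64 = E := by rw [show (64 : ℕ) = 16 * 4 from rfl, pow_mul, he16, he4]
  have he256 : E ^ 256 = E := by rw [show (256 : ℕ) = 64 * 4 from rfl, pow_mul, he64, he4]
  have hc₄ : S.κ c₁ ^ 256 = j ^ 256 * u + v ^ 256 * i + j ^ 256 * E * i := by
    simp only [hc₁, hj, hv, map_add, map_mul, map_pow, κκ, heκ, hp256]
    simp only [mul_pow, ← pow_mul]
    norm_num
    rw [h1024 i, h1024 u, he256]
    ring
  have hc₃ : S.κ c₂ ^ 64 = j ^ 64 * u + v ^ 64 * i + j ^ 64 * E * i := by
    simp only [hc₂def, hj, hv, map_add, map_mul, map_pow, κκ, heκ, hp64]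
    simp only [mul_pow, ← pow_mul]
    norm_num
    rw [h1024 i, h1024 u, he64]
    ring
  have hc₀s : S.Skew c₀ := by
    show S.κ c₀ = -c₀
    simp only [hc₀, hj, hv, map_add, map_mul, κκ, heκ]
    linear_combination (i * S.κ u + u * S.κ i + E * i * S.κ i) * h2
  have hid : ∀ β, algebraMap F K (tr (β * j) : F) * u + algebraMap F K (tr (β * v) : F) * i +
      algebraMap F K (tr (β * j) : F) * E * i = c₀ * β + Q (c₁, c₂) β := fun β => by
    simp only [hQ]
    rw [hc₃, hc₄]
    simp only [htr, hc₁, hc₀, hc₂def]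
    ring
  have hdec : S.InR M w (Q (c₁, c₂)) :=
    (hE.sub P.iso P.w_ne (hM.inR_trans P.iso hc₀s)).congr fun β => by rw [hid]; ring
  have hfix4 : ∀ x : K, x ^ 4 = x → ∃ a : F, algebraMap F K a = x := fun x => S.mem_range_of_pow_four hq
  have hfix16 : ∀ x : K, x ^ 16 = x → ∃ a : F, algebraMap F K a = x := fun x hx => hfix4 x (by
    calc x ^ 4 = ((x ^ 16) ^ 16) ^ 4 := by rw [hx, hx]
      _ = x ^ 1024 := by rw [← pow_mul, ← pow_mul]
      _ = x := h1024 x)
  set L : K →ₗ[F] F × F := (tr ∘ₗ LinearMap.mulRight F j).prod (tr ∘ₗ LinearMap.mulRight F v)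
  have hker : 3 ≤ finrank F (LinearMap.ker L) := by
    have h1 := L.finrank_range_add_finrank_ker
    rw [hr] at h1
    have h3 := Submodule.finrank_le (LinearMap.range L)
    rw [Module.finrank_prod, Module.finrank_self] at h3
    omega
  set z : Fin 3 → K := fun k => ((Module.finBasis F (LinearMap.ker L) (Fin.castLE hker k) : LinearMap.ker L) : K)
  have hz : LinearIndependent F z :=
    ((Module.finBasis F (LinearMap.ker L)).linearIndependent.map' (LinearMap.ker L).subtype
      (Submodule.ker_subtype _)).comp _ (Fin.castLE_injective hker)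
  have hz0 : ∀ k, c₀ * z k + Q (c₁, c₂) (z k) = 0 := fun k => by
    have hk : L (z k) = 0 := ((Module.finBasis F (LinearMap.ker L)) (Fin.castLE hker k)).2
    obtain ⟨z1, z2⟩ := Prod.mk.injEq .. ▸ (show L (z k) = (0, 0) from hk)
    rw [← hid, show (tr (z k * j) : F) = 0 from z1, show (tr (z k * v) : F) = 0 from z2]
    simp
  have hne : ¬ (∀ β, c₀ * β + Q (c₁, c₂) β = 0) := fun h0 => by
    have h11 := hid β₁
    rw [h0, hβ₁] at h11
    exact hβ₁u (by simpa [P.i_ne] using h11)
  have hφF : ∀ (n : ℕ) (a : F), algebraMap F K a ^ 4 ^ n = algebraMap F K a := fun n a => by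
    rw [← map_pow, show (4 : ℕ) = Fintype.card F by rw [S.hF, hq]; norm_num, FiniteField.pow_card_pow]
  have hc₁0 : c₁ ≠ 0 := fun h0 => hne fun β => by
    obtain ⟨hA, hB, hC⟩ := three_term (F := F) (iterateFrobenius K 2 4) (fun x hx => hfix16 x (by
        rwa [iterateFrobenius_def] at hx))
      (fun a => by rw [iterateFrobenius_def]; exact hφF 2 a) hz (A := c₂ ^ 16) (B := c₀ ^ 16)
      (C := (S.κ c₂ ^ 64) ^ 16) fun k => by
        have h1 := congrArg (fun x : K => x ^ 2 ^ 4) (hz0 k)
        simp only [hQ, h0, map_zero] at h1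
        rw [zero_pow (by norm_num : 256 ≠ 0), zero_mul, zero_mul, zero_add, zero_add, hp, hp,
          zero_pow (by norm_num)] at h1
        norm_num at h1 ⊢
        rw [iterateFrobenius_def, iterateFrobenius_def]
        norm_num
        simp only [mul_pow, ← pow_mul] at h1 ⊢
        norm_num at h1 ⊢
        simp only [h1024] at h1 ⊢
        linear_combination h1
    simp only [hQ, h0, (pow_eq_zero_iff (by norm_num : 16 ≠ 0)).1 hA, (pow_eq_zero_iff (by norm_num : 16 ≠ 0)).1 hB]
    simp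
  have hc₂0 : c₂ ≠ 0 := fun h0 => hne fun β => by
    obtain ⟨hA, hB, hC⟩ := three_term (F := F) (iterateFrobenius K 2 2) (fun x hx => hfix4 x (by
        rwa [iterateFrobenius_def] at hx))
      (fun a => by rw [iterateFrobenius_def]; exact hφF 1 a) hz (A := c₁ ^ 4) (B := c₀ ^ 4)
      (C := (S.κ c₁ ^ 256) ^ 4) fun k => by
        have h1 := congrArg (fun x : K => x ^ 2 ^ 2) (hz0 k)
        simp only [hQ, h0, map_zero] at h1
        rw [zero_pow (by norm_num : 64 ≠ 0), zero_mul, zero_mul, add_zero, add_zero, hp, hp,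
          zero_pow (by norm_num)] at h1
        norm_num at h1 ⊢
        rw [iterateFrobenius_def, iterateFrobenius_def]
        norm_num
        simp only [mul_pow, ← pow_mul] at h1 ⊢
        norm_num at h1 ⊢
        simp only [h1024] at h1 ⊢
        linear_combination h1
    simp only [hQ, h0, (pow_eq_zero_iff (by norm_num : 4 ≠ 0)).1 hA, (pow_eq_zero_iff (by norm_num : 4 ≠ 0)).1 hB]
    simp
  have hord : ∀ n, n ≠ 0 → Nat.gcd 1023 (3 * n) = 3 → orderOf (s ^ n) = 341 := fun n hn hgcd => by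
    rw [hs, ← pow_mul, orderOf_pow' _ (by omega), hordg, hgcd]
  have ho : ∀ n, orderOf (s ^ n) = 341 → ∀ k < 10, k ≠ 0 → ¬ orderOf (s ^ n) ∣ 2 ^ k - 1 := fun n hn k hk hk0 h => by
    rw [hn] at h
    interval_cases k <;> first | exact absurd rfl hk0 | norm_num at h
  have htop : R = ⊤ := addSubgroup_top_pair hcard R hR (fun k h => by
      have hso : orderOf s = 341 := by simpa using hord 1 one_ne_zero rfl
      have hk : ∀ x : K, x ^ 2 ^ k = x ^ 2 ^ (k % 10) := fun x => by
        conv_lhs => rw [← Nat.div_add_mod k 10]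
        rw [pow_add 2, pow_mul x, pow_mul 2, show 2 ^ 10 = Fintype.card K from hcard.symm, FiniteField.pow_card_pow]
      rw [hk, ← pow_mul, ← pow_mod_orderOf, ← pow_mod_orderOf s 513, hso] at h
      have h3 := pow_injOn_Iio_orderOf (x := s) (by simp [hso, Nat.mod_lt]) (by simp [hso]) h
      have := Nat.mod_lt k (show 10 > 0 by norm_num)
      interval_cases hm : k % 10 <;> norm_num at h3)
    (ho _ (hord 129 (by norm_num) (by decide))) (ho _ (hord 513 (by norm_num) (by decide)))
    (pow_ne_zero _ (pow_ne_zero _ g.ne_zero)) (pow_ne_zero _ (pow_ne_zero _ g.ne_zero)) hdec hc₁0 hc₂0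
  refine P.root_of_inR fun l hl => ?_
  have hl2 : algebraMap F K l ^ 2 = algebraMap F K l := by
    rw [← map_pow, ← hq, ← σ_apply, hl, map_neg]
    exact hneg _
  set N := algebraMap F K l with hNdef
  have hl4 : N ^ 4 = N := by rw [show (4 : ℕ) = 2 * 2 from rfl, pow_mul, hl2, hl2]
  have hl64 : N ^ 64 = N := by rw [show (64 : ℕ) = 4 * (4 * 4) from rfl, pow_mul, hl4, pow_mul, hl4, hl4]
  have hl256 : N ^ 256 = N := by rw [show (256 : ℕ) = 64 * 4 from rfl, pow_mul, hl64, hl4]
  have hNκ : S.κ N = N := by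
    rw [hκ, show (32 : ℕ) = 4 * (4 * 2) from rfl, pow_mul, hl4, pow_mul, hl4, hl2]
  have hmem : ((N * (j ^ 4 * i), N * (j ^ 16 * i)) : K × K) ∈ R := htop ▸ AddSubgroup.mem_top _
  have hsk : S.Skew (N * (j * i)) := by
    show S.κ _ = -_
    rw [map_mul, map_mul, hNκ, hj, κκ]
    linear_combination (N * i * S.κ i) * h2
  refine (hM.inR_trans P.iso hsk).add P.iso P.w_ne hmem |>.congr fun β => ?_
  simp only [hQ, Algebra.smul_def, map_mul, htr, ← hj, ← hNdef]
  rw [show S.κ N * (S.κ (j ^ 4) * j) = N * (i ^ 4 * j) by rw [hNκ, map_pow, hj, κκ],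
    show S.κ N * (S.κ (j ^ 16) * j) = N * (i ^ 16 * j) by rw [hNκ, map_pow, hj, κκ]]
  simp only [mul_pow, ← pow_mul]
  norm_num
  rw [h1024 i, hl64, hl256]
  ring

end Pair

end UForm

end Cfsg.Agent.H58.SUExt
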