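import Cfsg.Agent.H58.SUExt.Movers

/-!
An element mapping all isotropic `K`-lines to `K`-lines is semilinear.
-/

set_option autoImplicit false
set_option linter.unusedSectionVars false
set_option linter.style.haveILetI false

namespace Cfsg.Agent.H58.SUExt.UForm

open Module Cfsg.Agent.H98.ExtField

variable {F : Type*} [Field F] [Fintype F] {K : Type*} [Field K] [Fintype K] [Algebra F K]
  {V : Type*} [AddCommGroup V] [Module F V] [Module K V] [IsScalarTower F K V] [FiniteDimensional F V]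

theorem exists_iso_both (S : UForm F K V) {v w : V} (hv : S.B v v = 0) (hv0 : v ≠ 0) (hw0 : w ≠ 0)
    (hvw : S.B v w = 0) : ∃ z, S.B z z = 0 ∧ S.B v z ≠ 0 ∧ S.B w z ≠ 0 := by
  obtain ⟨y, hy₁, hy₂⟩ : ∃ y, S.B v y ≠ 0 ∧ S.B w y ≠ 0 := by
    obtain ⟨y, hy⟩ := S.exists_partner_left hv0
    obtain ⟨y', hy'⟩ := S.exists_partner_left hw0
    by_cases h1 : S.B w y = 0
    · by_cases h2 : S.B v y' = 0
      · exact ⟨y + y', by rwa [S.B_add_right, h2, add_zero], by rwa [S.B_add_right, h1, zero_add]⟩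
      · exact ⟨y', h2, hy'⟩
    · exact ⟨y, hy, h1⟩
  obtain ⟨k, hk⟩ := S.exists_iso_add hv hy₁
  refine ⟨y + k • v, hk, ?_, ?_⟩
  · rwa [S.B_add_right, S.B_smul_right, hv, mul_zero, add_zero]
  · rwa [S.B_add_right, S.B_smul_right, S.symm_zero hvw, mul_zero, add_zero]

variable {S : UForm F K V}

theorem phi_pair {g : (Module.End F V)ˣ}
    (hline : ∀ v, v ≠ 0 → S.B v v = 0 → ∃ z, (line F K v).map (g : Module.End F V) = line F K z)
    {v w : V} (hv : S.B v v = 0) (hw : S.B w w = 0) (hvw : S.B v w ≠ 0) :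
    ∃ φ : K → K, (∀ k, (g : Module.End F V) (k • v) = φ k • (g : Module.End F V) v) ∧
      (∀ k, (g : Module.End F V) (k • w) = φ k • (g : Module.End F V) w) ∧ ∀ k k', φ (k * k') = φ k * φ k' := by
  set G := (g : Module.End F V) with hG
  have hinj := injective_coe g
  have hv0 : v ≠ 0 := by rintro rfl; simp at hvw
  have hw0 : w ≠ 0 := by rintro rfl; simp at hvw
  have himg : ∀ u, u ≠ 0 → S.B u u = 0 → ∀ k : K, ∃ l : K, G (k • u) = l • G u := by
    intro u hu huu k
    obtain ⟨z, hz⟩ := hline u hu huu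
    have h1 : G u ∈ line F K z := hz ▸ Submodule.mem_map_of_mem (self_mem_line u)
    have h0 : G u ≠ 0 := fun h => hu (hinj (by rw [← hG, h, map_zero]))
    have h2 : G (k • u) ∈ line F K z := hz ▸ Submodule.mem_map_of_mem ⟨k, rfl⟩
    rw [← line_eq_of_mem h1 h0] at h2
    obtain ⟨l, hl⟩ := mem_line.1 h2
    exact ⟨l, hl.symm⟩
  choose φv hφv using himg v hv0 hv
  choose φw hφw using himg w hw0 hw
  have hgv : G v ≠ 0 := fun h => hv0 (hinj (by rw [← hG, h, map_zero]))
  have hgw : G w ≠ 0 := fun h => hw0 (hinj (by rw [← hG, h, map_zero]))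
  have hindep : ∀ a b : K, a • G v + b • G w = 0 → a = 0 ∧ b = 0 := by
    intro a b h
    by_cases hb : b = 0
    · rw [hb, zero_smul, add_zero] at h
      exact ⟨(smul_eq_zero.1 h).resolve_right hgv, hb⟩
    exfalso
    obtain ⟨z, hz⟩ := hline v hv0 hv
    have h1 : G v ∈ line F K z := hz ▸ Submodule.mem_map_of_mem (self_mem_line v)
    have h2 : G w ∈ (line F K v).map G := by
      rw [hz, ← line_eq_of_mem h1 hgv]
      refine mem_line.2 ⟨-(a / b), ?_⟩
      rw [neg_smul, div_eq_mul_inv, mul_comm, mul_smul, eq_neg_of_add_eq_zero_left h, smul_neg, neg_neg,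
        inv_smul_smul₀ hb]
    obtain ⟨u, ⟨k, rfl⟩, hu⟩ := h2
    rw [← hinj hu, smulMap_apply, S.B_smul_right, hv, mul_zero] at hvw
    exact hvw rfl
  have huniq : ∀ a b : K, a • G v = b • G v → a = b := fun a b h => smul_left_injective K hgv h
  set p := S.B w v with hp
  have hp0 : p ≠ 0 := fun h => hvw (S.symm_zero h)
  have hrel : ∀ a : K, S.Skew a → ∀ k, φw (k * (a / p)) = φv k * φw (a / p) := by
    intro a ha k
    have hiso : S.B (v + (a / p) • w) (v + (a / p) • w) = 0 := by
      simp only [S.B_add_left, S.B_add_right, S.B_smul_left, S.B_smul_right, hv, hw, map_div₀, ← hp,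
        show S.κ a = -a from ha]
      rw [hp, κB, div_mul_cancel₀ _ hvw, div_mul_cancel₀ _ (hp ▸ hp0)]
      ring
    have hne : v + (a / p) • w ≠ 0 := fun h => hvw (by
      have := congrArg (fun x => S.B v x) (show v = -((a / p) • w) from eq_neg_of_add_eq_zero_left h)
      simp only [hv, ← neg_smul, S.B_smul_right] at this
      rcases mul_eq_zero.1 this.symm with h0 | h0
      · rw [map_eq_zero, neg_eq_zero, div_eq_zero_iff] at h0
        rcases h0 with h0 | h0
        · simp [h0] at h; exact absurd h hv0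
        · exact absurd h0 hp0
      · exact h0)
    obtain ⟨l, hl⟩ := himg _ hne hiso k
    rw [smul_add, map_add, smul_smul, map_add, hφv, hφw, smul_add] at hl
    rw [hφw, smul_smul] at hl
    have := hindep (φv k - l) (φw (k * (a / p)) - l * φw (a / p)) (by
      linear_combination (norm := module) hl)
    obtain ⟨h1, h2⟩ := this
    rw [sub_eq_zero] at h1 h2
    rw [h2, h1]
  obtain ⟨d, hd0, hd⟩ := S.exists_skewF
  set a₀ := algebraMap F K d with ha₀def
  have ha₀ : S.Skew a₀ := by
    show S.κ (algebraMap F K d) = -algebraMap F K d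
    rw [κ_algebraMap, hd, map_neg]
  have ha0 : a₀ ≠ 0 := by rw [ha₀def]; simpa using hd0
  set ρ := φw (a₀ / p) with hρ
  have hρ0 : ρ ≠ 0 := fun h => by
    have h1 := hφw (a₀ / p)
    rw [← hρ, h, zero_smul] at h1
    have h2 := hinj (h1.trans (map_zero G).symm)
    exact div_ne_zero ha0 hp0 ((smul_eq_zero.1 h2).resolve_right hw0)
  have hfix : ∀ c : K, S.κ c = c → ∀ k, φv (k * c) = φv k * φv c := by
    intro c hc k
    have h1 := hrel (c * a₀) (show S.κ (c * a₀) = -(c * a₀) by rw [map_mul, hc, ha₀]; ring) k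
    have h2 := hrel a₀ ha₀ (k * c)
    have h3 := hrel a₀ ha₀ c
    rw [show k * (c * a₀ / p) = k * c * (a₀ / p) by ring, h2, show c * a₀ / p = c * (a₀ / p) by ring, h3,
      ← mul_assoc] at h1
    exact mul_right_cancel₀ hρ0 h1
  have hadd : ∀ k k', φv (k + k') = φv k + φv k' := fun k k' => huniq _ _ (by
    rw [add_smul, ← hφv, ← hφv, ← hφv, add_smul, map_add])
  have hsmul : ∀ (s : F) (k : K), φv (s • k) = s • φv k := fun s k => huniq _ _ (by
    rw [← hφv, smul_assoc, map_smul, hφv, smul_assoc])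
  obtain ⟨e, he⟩ := S.exists_e
  have hmul : ∀ k k', φv (k * k') = φv k * φv k' := by
    intro k k'
    obtain ⟨c₁, c₂, h₁, h₂, rfl⟩ := S.exists_decomp he k'
    rw [mul_add, hadd, hadd, mul_smul_comm, hsmul, hsmul, hfix _ h₁, hfix _ h₂, mul_add, mul_smul_comm]
  have hone : φv 1 = 1 := huniq _ _ (by rw [← hφv, one_smul, one_smul])
  have hvw' : ∀ k, φw k = φv k := by
    intro k
    have h1 : ∀ k, φw k = φv k * (φv (p / a₀) * ρ) := fun k => by
      have := hrel a₀ ha₀ (k * (p / a₀))
      rwa [mul_assoc, show p / a₀ * (a₀ / p) = 1 by field_simp, mul_one, hmul, mul_assoc] at this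
    have h2 : φw 1 = 1 := smul_left_injective K hgw (show φw 1 • G w = (1 : K) • G w by
      rw [← hφw, one_smul, one_smul])
    have h3 := h1 1
    rw [hone, one_mul, h2] at h3
    rw [h1, ← h3, mul_one]
  exact ⟨φv, hφv, fun k => by rw [hφw, hvw'], hmul⟩

/-- An element mapping every isotropic line to a line normalises `K`. -/
theorem semilinear_of_lines (hdim : ∀ v : V, ∃ z, z ∉ line F K v) {g : (Module.End F V)ˣ}
    (hline : ∀ v, v ≠ 0 → S.B v v = 0 → ∃ z, (line F K v).map (g : Module.End F V) = line F K z) (k : K) :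
    ∃ k' : K, ∀ x, (g : Module.End F V) (k • ((g⁻¹ : (Module.End F V)ˣ) : Module.End F V) x) = k' • x := by
  set G := (g : Module.End F V) with hG
  obtain ⟨v, hv0, hv⟩ := S.exists_iso hdim
  obtain ⟨w, hw, hvw⟩ := S.exists_partner hv hv0
  obtain ⟨φ, hφ, -, hφm⟩ := phi_pair hline hv hw (by rw [hvw]; exact one_ne_zero)
  have huniq : ∀ (u : V), u ≠ 0 → ∀ a b : K, a • G u = b • G u → a = b := fun u hu a b h =>
    smul_left_injective K (fun h0 : G u = 0 => hu (injective_coe g (by rw [← hG, h0, map_zero]))) h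
  have hsame : ∀ u, S.B u u = 0 → ∀ k, G (k • u) = φ k • G u := by
    intro u hu k
    rcases eq_or_ne u 0 with rfl | hu0
    · simp
    have key : ∀ a b : V, S.B a a = 0 → S.B b b = 0 → S.B a b ≠ 0 → a ≠ 0 →
        (∀ k, G (k • a) = φ k • G a) → ∀ k, G (k • b) = φ k • G b := by
      intro a b ha hb hab ha0 h k
      obtain ⟨ψ, hψa, hψb, -⟩ := phi_pair hline ha hb hab
      rw [hψb, huniq a ha0 (φ k) (ψ k) (by rw [← h, hψa])]
    by_cases h : S.B v u = 0
    swap
    · exact key v u hv hu h hv0 hφ k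
    obtain ⟨z, hz, hvz, huz⟩ := S.exists_iso_both hv hv0 hu0 h
    have hz0 : z ≠ 0 := by rintro rfl; simp at hvz
    exact key z u hz hu (fun h => huz (S.symm_zero h)) hz0 (key v z hv hz hvz hv0 hφ) k
  have hall : ∀ x, ∀ k : K, G (k • x) = φ k • G x := by
    intro x
    induction S.mem_span_iso hdim x using Submodule.span_induction with
    | mem u hu => exact hsame u hu
    | zero => intro k; simp
    | add a b _ _ ha hb => intro k; rw [smul_add, map_add, ha, hb, map_add, smul_add]
    | smul c a _ ha => intro k; rw [smul_smul, ha, hφm, mul_smul, ha]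
  exact ⟨φ k, fun x => by rw [hall, hG, apply_inv]⟩

end Cfsg.Agent.H58.SUExt.UForm
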