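import Cfsg.Agent.H58.SUExt.CharTwo
import Cfsg.Agent.Unitary.AschProper
import Cfsg.Agent.Symplectic.HermBasic

/-!
Maximality, in the special unitary group, of the normaliser of an adjoint closed field subalgebra of degree three or
five, of index at least two.
-/

set_option autoImplicit false
set_option linter.style.haveILetI false
set_option linter.unusedSectionVars false

namespace Cfsg.Agent.H58.SUExt

open Module Matrix Cfsg Cfsg.Agent Cfsg.Agent.Symplectic

theorem not_succ_pow_dvd {q r : ℕ} (hq : 2 ≤ q) (h : (3 ≤ q ∧ r = 3) ∨ r = 5) :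
    ¬ q ^ r + 1 ∣ (q + 1) * (q ^ 2 - 1) := by
  intro hd
  obtain ⟨s, hs⟩ : ∃ s, q ^ 2 = s + 1 := ⟨q ^ 2 - 1, by have := Nat.one_le_pow 2 q (by omega); omega⟩
  rw [show q ^ 2 - 1 = s by omega] at hd
  have hs0 : 0 < (q + 1) * s := by nlinarith
  obtain ⟨c, hc⟩ := hd
  have h1 : (q + 1) * s + q + 1 = q ^ 3 + q ^ 2 := by
    have : q ^ 3 + q ^ 2 = (q + 1) * q ^ 2 := by ring
    rw [this, hs]; ring
  rcases h with ⟨h3, rfl⟩ | rfl
  · rcases Nat.lt_or_ge c 2 with hc2 | hc2
    · interval_cases c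
      · omega
      · have : 3 * q ≤ q ^ 2 := by nlinarith
        omega
    · have h2 : 2 * (q ^ 3 + 1) ≤ (q + 1) * s := by rw [hc, mul_comm]; exact Nat.mul_le_mul_left _ hc2
      have : 3 * q ^ 2 ≤ q ^ 3 := by nlinarith
      omega
  · rcases Nat.eq_zero_or_pos c with rfl | hc0
    · omega
    · have h2 : q ^ 5 + 1 ≤ (q + 1) * s := hc ▸ Nat.le_mul_of_pos_right _ hc0
      have : 4 * q ^ 3 ≤ q ^ 5 := by
        have : 4 ≤ q ^ 2 := by nlinarith
        calc 4 * q ^ 3 ≤ q ^ 2 * q ^ 3 := Nat.mul_le_mul_right _ this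
          _ = q ^ 5 := by ring
      have : q ^ 2 ≤ q ^ 3 := Nat.pow_le_pow_right (by omega) (by norm_num)
      omega

namespace UForm

variable {F : Type*} [Field F] [Fintype F] {K : Type*} [Field K] [Fintype K] [Algebra F K]
  {V : Type*} [AddCommGroup V] [Module F V] [Module K V] [IsScalarTower F K V] (S : UForm F K V)

theorem B_smul_self {w : V} (h : S.B w w = 0) (k : K) : S.B (k • w) (k • w) = 0 := by
  rw [S.B_smul_left, S.B_smul_right, h, mul_zero, mul_zero]

theorem exists_good (h : (3 ≤ S.q ∧ finrank F K = 3) ∨ finrank F K = 5) : ∃ l, S.Good l := by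
  obtain ⟨g, hg⟩ := IsCyclic.exists_generator (α := Kˣ)
  set q := S.q with hqdef
  set r := finrank F K with hrdef
  have hq : 2 ≤ q := Unitary.two_le_q S.hF
  have hord : orderOf (g : K) = (q ^ r - 1) * (q ^ r + 1) := by
    rw [orderOf_units, orderOf_eq_card_of_forall_mem_zpowers hg, Nat.card_units, Nat.card_eq_fintype_card, S.hK,
      mul_comm]
    simpa using Nat.sq_sub_sq (q ^ r) 1
  have hdvd : ∀ k, orderOf (g : K) ∣ k → (g : K) ^ k = 1 := fun k hk => orderOf_dvd_iff_pow_eq_one.1 hk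
  refine ⟨(g : K) ^ ((q ^ r - 1) * (q + 1)), ?_, ?_, ?_⟩
  · rw [S.κ_apply, ← pow_mul, ← pow_add]
    refine hdvd _ ?_
    rw [hord, ← hqdef, ← hrdef]
    exact Dvd.intro (q + 1) (by ring)
  · refine (algebraMap F K).injective ?_
    rw [FiniteField.algebraMap_norm_eq_pow_sum, map_one, Nat.card_eq_fintype_card, S.hF, ← pow_mul, ← hqdef,
      ← hrdef]
    refine hdvd _ ?_
    obtain ⟨m, hm⟩ : q - 1 ∣ q ^ r - 1 := Nat.sub_one_dvd_pow_sub_one q r
    have hgeo : (q ^ 2 - 1) * ∑ i ∈ Finset.range r, (q ^ 2) ^ i = (q ^ r - 1) * (q ^ r + 1) := by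
      rw [Nat.geomSum_eq (by nlinarith : 2 ≤ q ^ 2), Nat.mul_div_cancel' (Nat.sub_one_dvd_pow_sub_one (q ^ 2) r),
        ← pow_mul, mul_comm 2 r, pow_mul, mul_comm _ (q ^ r + 1)]
      simpa using Nat.sq_sub_sq (q ^ r) 1
    rw [hord, ← hgeo, show q ^ 2 - 1 = (q + 1) * (q - 1) by simpa using Nat.sq_sub_sq q 1, hm]
    exact Dvd.intro m (by ring)
  · intro a ha
    refine not_succ_pow_dvd hq h ?_
    have hl0 : (g : K) ^ ((q ^ r - 1) * (q + 1)) ≠ 0 := pow_ne_zero _ g.ne_zero
    have ha0 : a ≠ 0 := fun h0 => hl0 (by rw [← ha, h0, map_zero])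
    have h1 := congrArg (fun x : K => x ^ (q ^ 2 - 1)) ha
    simp only [← map_pow, ← pow_mul] at h1
    rw [show q ^ 2 - 1 = Fintype.card F - 1 by rw [S.hF], FiniteField.pow_card_sub_one_eq_one a ha0, map_one,
      S.hF, ← hqdef] at h1
    have h2 := orderOf_dvd_of_pow_eq_one h1.symm
    rw [hord, mul_assoc] at h2
    have hpos : 0 < q ^ r - 1 := by
      have h0 := S.r_pos
      rw [← hrdef] at h0
      have := Nat.le_self_pow h0.ne' q
      omega
    exact Nat.dvd_of_mul_dvd_mul_left hpos h2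

end UForm

set_option maxHeartbeats 800000 in
/-- The normaliser of an adjoint closed field subalgebra of degree three or five is maximal in `SU_n(q)`, `n ≥ 2r`,
unless `q = 2`, `r = 3` and `n < 12`. -/
theorem isMaximalIn_normalizer {F : Type*} [Field F] [Fintype F] {n q r : ℕ} (hF : Fintype.card F = q ^ 2)
    (hr : r = 3 ∨ r = 5) (hn : 2 * r ≤ n) (hex : 3 ≤ q ∨ r = 5 ∨ 12 ≤ n)
    (K : Subalgebra F (Matrix (Fin n) (Fin n) F)) (hK : Cfsg.Geo.IsFieldSubalgebra r K)
    (hac : Cfsg.Geo.IsAdjointClosedFor (Cfsg.hermForm n F q) K) :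
    Cfsg.Geo.IsMaximalIn (Cfsg.GU n F q ⊓ Cfsg.Geo.specialLinear (Fin n) F)
      (Cfsg.Geo.subalgebraNormalizer K ⊓ (Cfsg.GU n F q ⊓ Cfsg.Geo.specialLinear (Fin n) F)) := by
  classical
  have hr' : r.Prime := by rcases hr with rfl | rfl <;> norm_num
  have hr3 : 3 ≤ r := by omega
  haveI : NeZero n := ⟨by omega⟩
  haveI : Nonempty (Fin n) := ⟨⟨0, by omega⟩⟩
  letI : Field K := (Aschbacher.isField_of_isFieldSubalgebra hK).toField
  let eA : Matrix (Fin n) (Fin n) F ≃ₐ[F] Module.End F (Fin n → F) := Matrix.toLinAlgEquiv'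
  let ρ : K →ₐ[F] Module.End F (Fin n → F) := eA.toAlgHom.comp K.val
  letI hmod : Module K (Fin n → F) := Module.compHom (Fin n → F) ρ.toRingHom
  have hsmul : ∀ (k : K) (x : Fin n → F), k • x = (k : Matrix (Fin n) (Fin n) F) *ᵥ x := fun k x => rfl
  haveI : @IsScalarTower F K (Fin n → F) Algebra.toSMul
      hmod.toDistribMulAction.toDistribSMul.toSMulZeroClass.toSMul _ := ⟨fun c k x => by
    show ((c • k : K) : Matrix (Fin n) (Fin n) F) *ᵥ x = c • ((k : Matrix (Fin n) (Fin n) F) *ᵥ x)
    exact Matrix.smul_mulVec c _ x⟩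
  haveI : FiniteDimensional F K := Module.finite_of_finrank_pos (by rw [hK.finrank_eq]; exact hr'.pos)
  haveI : Finite K := Module.finite_of_finite F
  haveI : Fintype K := Fintype.ofFinite K
  have hrK : finrank F K = r := hK.finrank_eq
  have hKc : Fintype.card K = (q ^ finrank F K) ^ 2 := by
    rw [Module.card_eq_pow_finrank (K := F) (V := K), hF, ← pow_mul, ← pow_mul, mul_comm]
  obtain ⟨σ, hσ, hf⟩ := isUnitaryForm_hermForm (n := n) hF
  -- the adjoint is the conjugation
  set κ := Unitary.frob hKc with hκdef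
  have hκF : ∀ a : F, κ (algebraMap F K a) = algebraMap F K (a ^ q) := by
    intro a
    obtain ⟨j, hj⟩ : Odd (finrank F K) := by rw [hrK]; rcases hr with rfl | rfl <;> decide
    rw [Unitary.frob_apply, ← map_pow, hj, pow_succ, pow_mul q, ← hF, pow_mul, FiniteField.pow_card_pow]
  have hst_mem : ∀ k ∈ K, Unitary.Asch.hst q k ∈ K := fun X hX => by
    obtain ⟨Y, hY, hXY⟩ := hac X hX
    have : Unitary.Asch.hst q X = Y := Unitary.Asch.matrix_ext_herm hF fun u v => by
      rw [← Unitary.Asch.herm_mulVec_left hF, hXY]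
    exact this ▸ hY
  let τ : K ≃+* K :=
    { toFun := fun x => ⟨Unitary.Asch.hst q (x : Matrix (Fin n) (Fin n) F), hst_mem _ x.2⟩
      invFun := fun x => ⟨Unitary.Asch.hst q (x : Matrix (Fin n) (Fin n) F), hst_mem _ x.2⟩
      left_inv := fun x => Subtype.ext (Unitary.Asch.hst_hst hF _)
      right_inv := fun x => Subtype.ext (Unitary.Asch.hst_hst hF _)
      map_mul' := fun x y => Subtype.ext (by
        show Unitary.Asch.hst q ((x : Matrix (Fin n) (Fin n) F) * (y : Matrix (Fin n) (Fin n) F)) =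
          Unitary.Asch.hst q (x : Matrix (Fin n) (Fin n) F) * Unitary.Asch.hst q (y : Matrix (Fin n) (Fin n) F)
        rw [Unitary.Asch.hst_mul hF]
        exact hK.comm _ (hst_mem _ y.2) _ (hst_mem _ x.2))
      map_add' := fun x y => Subtype.ext (Unitary.Asch.hst_add hF _ _) }
  have hτF : ∀ a : F, τ (algebraMap F K a) = algebraMap F K (a ^ q) := fun a => Subtype.ext (by
    show Unitary.Asch.hst q (algebraMap F (Matrix (Fin n) (Fin n) F) a) = algebraMap F _ (a ^ q)
    rw [Algebra.algebraMap_eq_smul_one, Unitary.Asch.hst_smul_one hF, ← Algebra.algebraMap_eq_smul_one])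
  have hτ : ∀ k : K, τ k = κ k := by
    let α : K ≃ₐ[F] K := AlgEquiv.ofRingEquiv (f := κ.trans τ) fun c => by
      rw [RingEquiv.trans_apply, hκF, hτF, Unitary.pow_q_q hF]
    obtain ⟨p, a, hp, -, hc, -⟩ := Unitary.exists_char_pow hF
    haveI : Fact p.Prime := ⟨hp⟩
    haveI : CharP K p := charP_of_injective_algebraMap (algebraMap F K).injective p
    obtain ⟨j, hj⟩ := Unitary.Asch.exists_pow_char p τ
    have hcomm : ∀ k : K, τ (κ k) = κ (τ k) := fun k => by
      rw [hj, hj, Unitary.frob_apply, Unitary.frob_apply, ← pow_mul, ← pow_mul, mul_comm]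
    have hττ : ∀ k : K, τ (τ k) = k := fun k => Subtype.ext (Unitary.Asch.hst_hst hF _)
    have hκκ : ∀ k : K, κ (κ k) = k := fun k => by
      rw [Unitary.frob_apply, Unitary.frob_apply, Unitary.pow_q_q hKc]
    have h2 : α ^ 2 = 1 := AlgEquiv.ext fun k => by
      show τ (κ (τ (κ k))) = k
      rw [hcomm, hττ, hκκ]
    have hα : α = 1 := by
      rw [← orderOf_eq_one_iff]
      have h3 := orderOf_dvd_of_pow_eq_one h2
      have h4 : orderOf α ∣ r := by
        rw [← hrK, ← IsGalois.card_aut_eq_finrank F K]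
        exact orderOf_dvd_natCard α
      have h5 := Nat.dvd_gcd h3 h4
      rw [show Nat.gcd 2 r = 1 by rcases hr with rfl | rfl <;> rfl] at h5
      exact Nat.dvd_one.1 h5
    intro k
    have := AlgEquiv.congr_fun hα (κ k)
    rw [AlgEquiv.one_apply, show α (κ k) = τ (κ (κ k)) from rfl, hκκ] at this
    exact this
  have hadj : ∀ (s : K) u v, Cfsg.hermForm n F q (s • u) v = Cfsg.hermForm n F q u (κ s • v) := fun s u v => by
    rw [← hτ, hsmul, hsmul, Unitary.Asch.herm_mulVec_left hF]
    rfl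
  -- the form over `K`
  set T := Algebra.trace F K with hTdef
  have hsep : ∀ a : K, (∀ s : K, T (s * a) = 0) → a = 0 := fun a h => UForm.eq_zero_of_tr (F := F) h
  have hT0 : T ≠ 0 := fun h => one_ne_zero (hsep 1 fun s => by rw [h]; rfl)
  have hTκ : ∀ k : K, T (κ k) = σ (T k) := fun k => by
    refine (algebraMap F K).injective ?_
    rw [hσ, ← hκF, hTdef, FiniteField.algebraMap_trace_eq_sum_pow, FiniteField.algebraMap_trace_eq_sum_pow, map_sum]
    exact Finset.sum_congr rfl fun i _ => (map_pow _ _ _).symm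
  let χ : (Fin n → F) → (Fin n → F) →ₗ[F] F := fun v =>
    { toFun := fun u => Cfsg.hermForm n F q u v
      map_add' := fun x y => H95.u_add_left hf x y v
      map_smul' := fun c x => H95.u_smul_left hf c x v }
  choose G hG _hG using fun v => Cfsg.Agent.H98.ExtField.exists_factor (K := K) hT0 (χ v)
  have hGu : ∀ v u (s : K), T (s * G v u) = Cfsg.hermForm n F q (s • u) v := fun v u s => by
    rw [show Cfsg.hermForm n F q (s • u) v = χ v (s • u) from rfl, hG, map_smul, smul_eq_mul]
  let S : UForm F K (Fin n → F) :=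
    { q := q
      hF := hF
      hr := by rw [hrK]; rcases hr with rfl | rfl <;> decide
      hK := hKc
      B := fun x y => G y x
      B_add_left := fun x y z => map_add _ _ _
      B_smul_left := fun k x y => by rw [map_smul, smul_eq_mul]
      B_herm := fun x y => sub_eq_zero.1 (hsep _ fun s => by
        rw [mul_sub, map_sub, hGu, show s * Unitary.frob hKc (G y x) = κ (κ s * G y x) by
          rw [map_mul, ← hκdef]; congr 1; rw [Unitary.frob_apply, Unitary.frob_apply, Unitary.pow_q_q hKc],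
          hTκ, hGu, H95.u_conj hf, hadj, sub_self])
      nd := fun x h => by
        by_contra hx
        obtain ⟨⟨y, hy⟩, -⟩ := hf.nondegenerate x hx
        refine hy (H95.u_symm_zero hf ?_)
        rw [show Cfsg.hermForm n F q x y = χ y x from rfl, hG, show G y x = 0 from h y, map_zero] }
  have hSf : ∀ u v, S.f u v = Cfsg.hermForm n F q u v := fun u v => (hG v u).symm
  -- the correspondence with matrices
  let e : GL (Fin n) F ≃* (Module.End F (Fin n → F))ˣ := Units.mapEquiv eA.toMulEquiv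
  have he : ∀ (g : GL (Fin n) F) (x : Fin n → F),
      (e g : Module.End F (Fin n → F)) x = (g : Matrix (Fin n) (Fin n) F) *ᵥ x := fun g x => rfl
  set N := Cfsg.Geo.subalgebraNormalizer K with hN
  have hlin : ∀ g : GL (Fin n) F, (∀ (k : K) x, (g : Matrix (Fin n) (Fin n) F) *ᵥ (k • x) =
      k • ((g : Matrix (Fin n) (Fin n) F) *ᵥ x)) → g ∈ N := by
    intro g hu k
    have hcomm : ∀ x ∈ K, (g : Matrix (Fin n) (Fin n) F) * x = x * g := fun x hx =>
      Matrix.ext_iff_mulVec.2 fun v => by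
        rw [← Matrix.mulVec_mulVec, ← Matrix.mulVec_mulVec]
        simpa only [hsmul] using hu ⟨x, hx⟩ v
    constructor
    · intro hk
      rw [hcomm k hk, mul_assoc, Units.mul_inv, mul_one]
      exact hk
    · intro hk
      have h := hcomm _ hk
      rw [show ∀ G I : Matrix (Fin n) (Fin n) F, G * k * I * G = G * k * (I * G) from fun G I => mul_assoc _ _ _,
        Units.inv_mul, mul_one, Units.mul_right_inj] at h
      exact h ▸ hk
  refine ⟨lt_of_le_of_ne inf_le_right fun h => Unitary.Asch.field_proper hF (by omega) hK (by omega)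
    (inf_eq_right.1 h), fun M h1 h2 => ?_⟩
  by_cases hMN : M ≤ N
  · exact Or.inl (le_antisymm (le_inf hMN h2) h1)
  refine Or.inr (le_antisymm h2 ?_)
  have hM : S.Over (M.map e.toMonoidHom) := by
    refine ⟨fun u hu hdet => ?_, ?_⟩
    · obtain ⟨g, rfl⟩ := e.surjective u
      refine ⟨g, h1 ⟨hlin g fun k x => hu.1 k x, ?_, Units.ext ?_⟩, rfl⟩
      · intro a b
        rw [← hSf, ← hSf, UForm.f, UForm.f]
        exact congrArg _ (hu.2 a b)
      · rw [Units.val_one, ← hdet, show (e g : Module.End F (Fin n → F)) =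
          Matrix.toLin' (g : Matrix (Fin n) (Fin n) F) from rfl, LinearMap.det_toLin']
        rfl
    · rintro _ ⟨g, hg, rfl⟩ a b
      rw [hSf, hSf]
      exact (h2 hg).1 a b
  obtain ⟨g, hg, k, hk, hgk⟩ : ∃ g ∈ M, ∃ k ∈ K, (g : Matrix (Fin n) (Fin n) F) * k *
      ((g⁻¹ : GL (Fin n) F) : Matrix (Fin n) (Fin n) F) ∉ K := by
    obtain ⟨g, hg, hgN⟩ := SetLike.not_le_iff_exists.1 hMN
    by_contra hc
    push Not at hc
    refine hgN fun k => ⟨hc g hg k, fun h => ?_⟩
    have := hc g⁻¹ (M.inv_mem hg) _ h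
    simpa [mul_assoc] using this
  have hne' : ∀ k' : K, ∃ x, (e g : Module.End F (Fin n → F))
      ((⟨k, hk⟩ : K) • (((e g)⁻¹ : (Module.End F (Fin n → F))ˣ) : Module.End F (Fin n → F)) x) ≠ k' • x := by
    intro k'
    by_contra hc
    push Not at hc
    refine hgk ?_
    convert k'.2 using 1
    refine Matrix.ext_iff_mulVec.2 fun v => ?_
    have := hc v
    rw [← map_inv, he, he, hsmul, hsmul] at this
    simpa only [Matrix.mulVec_mulVec, mul_assoc] using this
  haveI : Module.Free K (Fin n → F) := Module.Free.of_divisionRing K (Fin n → F)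
  haveI : Module.Free F K := Module.Free.of_divisionRing F K
  have hVn : finrank F K * finrank K (Fin n → F) = n := by
    rw [Module.finrank_mul_finrank, Module.finrank_fintype_fun_eq_card, Fintype.card_fin]
  rw [hrK] at hVn
  have hm2 : 2 ≤ finrank K (Fin n → F) := by rcases hr with rfl | rfl <;> omega
  have hq2 : 2 ≤ q := Unitary.two_le_q hF
  have hbig : S.Big := by
    rcases le_or_gt 3 q with hq3 | hq3
    · refine Or.inl (S.exists_good ?_)
      rw [hrK]
      rcases hr with h | h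
      · exact Or.inl ⟨hq3, h⟩
      · exact Or.inr h
    · rcases hr with rfl | rfl
      · exact Or.inr (by omega)
      · exact Or.inl (S.exists_good (Or.inr hrK))
  have hdim : ∀ v : Fin n → F, ∃ z, z ∉ Cfsg.Agent.H98.ExtField.line F K v := fun v => by
    by_contra hc
    push Not at hc
    have h1 := LinearMap.finrank_range_le (Cfsg.Agent.H98.ExtField.smulMap F K v)
    rw [show LinearMap.range (Cfsg.Agent.H98.ExtField.smulMap F K v) = ⊤ from eq_top_iff.2 fun z _ => hc z,
      finrank_top, Module.finrank_fintype_fun_eq_card, Fintype.card_fin, hrK] at h1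
    omega
  obtain ⟨w, i, y, P⟩ := hM.exists_pair (by omega)
    (hM.exists_hyperplane (by rwa [hrK]) hbig hdim (Subgroup.mem_map_of_mem _ hg) hne')
  have hroot : S.Root (M.map e.toMonoidHom) (i • w) := by
    rcases le_or_gt 3 q with hq3 | hq3
    · exact P.root hM hq3
    · rcases hr with rfl | rfl
      · exact P.root_two_three hM (show q = 2 by omega) hrK (by omega)
      · exact P.root_two_five hM (show q = 2 by omega) hrK
  refine su_le_of_ut hF (by omega) hσ hf fun v hv l hl => ?_
  obtain ⟨-, u, ⟨g', hg', rfl⟩, hw⟩ := hM.root_all (by rwa [hrK]) hbig hm2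
    (v := i • w) (S.B_smul_self P.iso i) (smul_ne_zero P.i_ne P.w_ne)
    hroot (x := v) (by rw [hSf]; exact hv) l (by rw [UForm.σ_apply, ← hσ]; exact hl)
  suffices ut hf v l = g' by rw [this]; exact hg'
  refine H95.gl_ext fun x => ?_
  have hx := (LinearMap.congr_fun hw x).symm
  rw [LinearMap.add_apply, Module.End.one_apply] at hx
  simp only [MulEquiv.coe_toMonoidHom, he, LinearMap.smulRight_apply, LinearMap.smul_apply, UForm.fL_apply, hSf,
    smul_eq_mul] at hx
  rw [← hx, ut_mulVec hf hv]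

end Cfsg.Agent.H58.SUExt
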