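import Cfsg.Agent.H58.SUExt.Basic

/-!
Isotropic vectors, and elements moving a subspace while fixing a nondegenerate part.
-/

set_option autoImplicit false
set_option linter.unusedSectionVars false
set_option linter.style.haveILetI false

namespace Cfsg.Agent.H58.SUExt.UForm

open Module Cfsg.Agent.H98.ExtField

variable {F : Type*} [Field F] [Fintype F] {K : Type*} [Field K] [Fintype K] [Algebra F K]
  {V : Type*} [AddCommGroup V] [Module F V] [Module K V] [IsScalarTower F K V] [FiniteDimensional F V]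
  {S : UForm F K V} {M : Subgroup (Module.End F V)ˣ}

theorem exists_partner_left (S : UForm F K V) {v : V} (hv : v ≠ 0) : ∃ y, S.B v y ≠ 0 := by
  by_contra h
  push Not at h
  exact hv (S.nd v h)

theorem exists_iso_add (S : UForm F K V) {v y : V} (hv : S.B v v = 0) (h : S.B v y ≠ 0) :
    ∃ k : K, S.B (y + k • v) (y + k • v) = 0 := by
  obtain ⟨k, hk⟩ := S.exists_half (n := -S.B y y) (by rw [map_neg, κB])
  refine ⟨k / S.B v y, ?_⟩
  simp only [S.B_add_left, S.B_add_right, S.B_smul_left, S.B_smul_right, hv, map_div₀, κB]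
  have h' : S.B y v ≠ 0 := fun h' => h (S.symm_zero h')
  rw [div_mul_cancel₀ _ h, div_mul_cancel₀ _ h']
  linear_combination hk

theorem exists_partner (S : UForm F K V) {v : V} (hv : S.B v v = 0) (hv0 : v ≠ 0) :
    ∃ w, S.B w w = 0 ∧ S.B v w = 1 := by
  obtain ⟨y, hy⟩ := S.exists_partner_left hv0
  obtain ⟨k, hk⟩ := S.exists_iso_add hv hy
  refine ⟨(S.κ (S.B v y))⁻¹ • (y + k • v), ?_, ?_⟩
  · rw [S.B_smul_left, S.B_smul_right, hk]; simp
  · rw [S.B_smul_right, S.B_add_right, S.B_smul_right, hv, map_inv₀, κκ, mul_zero, add_zero,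
      inv_mul_cancel₀ hy]

theorem exists_iso (S : UForm F K V) (hdim : ∀ v : V, ∃ z, z ∉ line F K v) : ∃ v, v ≠ 0 ∧ S.B v v = 0 := by
  obtain ⟨u, hu⟩ := hdim 0
  have hu0 : u ≠ 0 := fun h => hu (by rw [h]; exact Submodule.zero_mem _)
  by_cases huu : S.B u u = 0
  · exact ⟨u, hu0, huu⟩
  obtain ⟨x, hx⟩ := hdim u
  set z := x - (S.B x u / S.B u u) • u with hz
  have hz0 : z ≠ 0 := fun h => hx ⟨_, (sub_eq_zero.1 h).symm⟩
  have hzu : S.B z u = 0 := by rw [hz, S.B_sub_left, S.B_smul_left, div_mul_cancel₀ _ huu, sub_self]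
  by_cases hzz : S.B z z = 0
  · exact ⟨z, hz0, hzz⟩
  obtain ⟨k, hk⟩ := S.exists_norm (n := -S.B z z / S.B u u) (by rw [map_div₀, map_neg, κB, κB])
  refine ⟨z + k • u, fun h => ?_, ?_⟩
  · have := congrArg (fun a => S.B a u) h
    simp only [S.B_add_left, S.B_smul_left, hzu, zero_add, B_zero_left, mul_eq_zero, huu, or_false] at this
    rw [this, zero_mul, eq_comm, div_eq_zero_iff, neg_eq_zero] at hk
    exact hk.elim hzz huu
  · simp only [S.B_add_left, S.B_add_right, S.B_smul_left, S.B_smul_right, hzu, S.symm_zero hzu, mul_zero,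
      add_zero, zero_add]
    rw [← mul_assoc, hk, div_mul_cancel₀ _ huu, add_neg_cancel]

theorem mem_span_iso (S : UForm F K V) (hdim : ∀ v : V, ∃ z, z ∉ line F K v) (x : V) :
    x ∈ Submodule.span K {v : V | S.B v v = 0} := by
  obtain ⟨v, hv0, hv⟩ := S.exists_iso hdim
  have key : ∀ y, S.B v y ≠ 0 → y ∈ Submodule.span K {v : V | S.B v v = 0} := fun y hy => by
    obtain ⟨k, hk⟩ := S.exists_iso_add hv hy
    rw [← add_sub_cancel_right y (k • v)]
    exact Submodule.sub_mem _ (Submodule.subset_span hk) (Submodule.smul_mem _ _ (Submodule.subset_span hv))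
  by_cases h : S.B v x = 0
  swap
  · exact key x h
  obtain ⟨y, hy⟩ := S.exists_partner_left hv0
  rw [← add_sub_cancel_right x y]
  exact Submodule.sub_mem _ (key _ (by rwa [S.B_add_right, h, zero_add])) (key y hy)

theorem Over.exists_refl (hM : S.Over M) {u : V} (hu : S.B u u ≠ 0) {l : K} (hl : l * S.κ l = 1)
    (hn : Algebra.norm F l = 1) :
    ∃ t ∈ M, ∀ x, (t : Module.End F V) x = x + ((l - 1) / S.B u u * S.B x u) • u := by
  set T : V →ₗ[K] V := LinearMap.id + ((l - 1) • ((S.B u u)⁻¹ • S.Bl u)).smulRight u with hT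
  have hTx : ∀ x, T x = x + ((l - 1) / S.B u u * S.B x u) • u := fun x => by
    simp [hT, div_eq_mul_inv, mul_assoc]
  have hdet : LinearMap.det (T.restrictScalars F) = 1 := by
    rw [← hn]
    exact det_add_smulRight _ u (by simp [hu]) l
  have hu' : IsUnit (T.restrictScalars F) := LinearMap.isUnit_iff_range_eq_top _ |>.2 (by
    refine LinearMap.range_eq_top.2 (LinearMap.surjective_of_injective ?_)
    exact (LinearMap.equivOfDetNeZero (T.restrictScalars F) (by rw [hdet]; exact one_ne_zero)).injective)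
  refine ⟨hu'.unit, hM.contains _ ⟨fun k x => T.map_smul k x, fun x y => ?_⟩ hdet, fun x => hTx x⟩
  show S.B (T x) (T y) = _
  simp only [hTx, S.B_add_left, S.B_add_right, S.B_smul_left, S.B_smul_right, map_mul, map_div₀, map_sub,
    map_one, κB]
  field_simp
  linear_combination (S.B x u * S.B u y) * hl

/-! ### Projections. -/

/-- A self-adjoint idempotent. -/
structure Proj (S : UForm F K V) (pr : V →ₗ[K] V) : Prop where
  sa : ∀ x y, S.B (pr x) y = S.B x (pr y)
  idem : ∀ x, pr (pr x) = pr x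

theorem Proj.B_eq {pr : V →ₗ[K] V} (P : S.Proj pr) {c : V} (hc : pr c = c) (x : V) :
    S.B (pr x) c = S.B x c := by rw [P.sa, hc]

variable (S) in
/-- The projection along an anisotropic vector. -/
def projOne (w : V) : V →ₗ[K] V := LinearMap.id - ((S.B w w)⁻¹ • S.Bl w).smulRight w

theorem projOne_apply (w x : V) : S.projOne w x = x - ((S.B w w)⁻¹ * S.B x w) • w := rfl

theorem projOne_proj {w : V} (hw : S.B w w ≠ 0) : S.Proj (S.projOne w) := by
  refine ⟨fun x y => ?_, fun x => ?_⟩
  · simp only [projOne_apply, S.B_sub_left, S.B_sub_right, S.B_smul_left, S.B_smul_right, map_mul, map_inv₀, κB]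
    ring
  · simp only [projOne_apply, S.B_sub_left, S.B_smul_left]
    rw [show S.B x w - (S.B w w)⁻¹ * S.B x w * S.B w w = 0 by field_simp; ring, mul_zero, zero_smul, sub_zero]

theorem projOne_self {w : V} (hw : S.B w w ≠ 0) : S.projOne w w = 0 := by
  rw [projOne_apply, inv_mul_cancel₀ hw, one_smul, sub_self]

variable (S) in
/-- The projection along a hyperbolic pair. -/
def projPair (w y : V) : V →ₗ[K] V := LinearMap.id - (S.Bl y).smulRight w - (S.Bl w).smulRight y

theorem projPair_apply (w y x : V) : S.projPair w y x = x - S.B x y • w - S.B x w • y := rfl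

theorem projPair_proj {w y : V} (hw : S.B w w = 0) (hy : S.B y y = 0) (hwy : S.B w y = 1) :
    S.Proj (S.projPair w y) := by
  have hyw : S.B y w = 1 := by rw [← κB, hwy, map_one]
  refine ⟨fun x z => ?_, fun x => ?_⟩
  · simp only [projPair_apply, S.B_sub_left, S.B_sub_right, S.B_smul_left, S.B_smul_right, κB]
    ring
  · simp only [projPair_apply, S.B_sub_left, S.B_smul_left, hw, hy, hwy, hyw, mul_zero, mul_one, sub_zero,
      sub_self, zero_smul]

theorem projPair_left {w y : V} (hw : S.B w w = 0) (hwy : S.B w y = 1) : S.projPair w y w = 0 := by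
  simp [projPair_apply, hw, hwy]

variable (S) in
/-- The standing alternative: a scaling by `κ`-units, or dimension at least four. -/
def Big : Prop := (∃ l : K, S.Good l) ∨ 4 ≤ finrank K V

theorem exists_notMem_three (_S : UForm F K V) (h : 4 ≤ finrank K V) (a b c : V) : ∃ x, x ∉ Submodule.span K {a, b, c} := by
  classical
  haveI : Module.Finite K V := Module.Finite.of_restrictScalars_finite F K V
  by_contra hc
  push Not at hc
  have h1 : finrank K V ≤ 3 := by
    rw [← finrank_top K V, show (⊤ : Submodule K V) = Submodule.span K ↑({a, b, c} : Finset V) by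
      rw [Finset.coe_insert, Finset.coe_pair]; exact (eq_top_iff.2 fun z _ => hc z).symm]
    exact (finrank_span_finset_le_card _).trans Finset.card_le_three
  omega

variable (S) in
/-- The range of `pr` has a nonzero vector orthogonal to any given one, unless there is a good scalar. -/
def Wide (pr : V →ₗ[K] V) : Prop :=
  (∃ l : K, S.Good l) ∨ ∀ z, pr z = z → S.B z z ≠ 0 → ∃ p, pr p = p ∧ p ≠ 0 ∧ S.B p z = 0

theorem wide_of_ker {pr : V →ₗ[K] V} (P : S.Proj pr) {a b : V} (hker : ∀ x, x - pr x ∈ Submodule.span K {a, b})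
    (h : S.Big) : S.Wide pr := by
  rcases h with h | h
  · exact Or.inl h
  refine Or.inr fun z hz hzz => ?_
  obtain ⟨x, hx⟩ := exists_notMem_three S h a b z
  refine ⟨pr x - (S.B (pr x) z / S.B z z) • z, ?_, fun h0 => hx ?_, ?_⟩
  · rw [map_sub, map_smul, P.idem, hz]
  · rw [← sub_add_cancel x (pr x)]
    refine Submodule.add_mem _ (Submodule.span_mono (by intro; simp; tauto) (hker x)) ?_
    rw [sub_eq_zero.1 h0]
    exact Submodule.smul_mem _ _ (Submodule.subset_span (by simp))
  · rw [S.B_sub_left, S.B_smul_left, div_mul_cancel₀ _ hzz, sub_self]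

theorem wide_one {w : V} (hw : S.B w w ≠ 0) (h : S.Big) : S.Wide (S.projOne w) :=
  wide_of_ker (projOne_proj hw) (a := w) (b := w) (fun x => by
    rw [projOne_apply, sub_sub_cancel]
    exact Submodule.smul_mem _ _ (Submodule.subset_span (by simp))) h

theorem wide_pair {w y : V} (hw : S.B w w = 0) (hy : S.B y y = 0) (hwy : S.B w y = 1) (h : S.Big) :
    S.Wide (S.projPair w y) :=
  wide_of_ker (projPair_proj hw hy hwy) (a := w) (b := y) (fun x => Submodule.mem_span_pair.2
    ⟨S.B x y, S.B x w, by rw [projPair_apply]; abel⟩) h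

variable (S M) in
/-- A family of elements `x ↦ x + a B(x, c) c` of `M`, with `c` in the range of `pr` and the `a` spanning `K`. -/
def Mover (pr : V →ₗ[K] V) (z : V) : Prop :=
  ∃ c, pr c = c ∧ S.B z c ≠ 0 ∧ ∃ A : Set K, Submodule.span F A = ⊤ ∧
    ∀ a ∈ A, ∃ t ∈ M, ∀ x, (t : Module.End F V) x = x + (a * S.B x c) • c

theorem Over.mover (hM : S.Over M) (hr : (finrank F K).Prime) {pr : V →ₗ[K] V} (P : S.Proj pr) (hW : S.Wide pr)
    {z : V} (hz : pr z ≠ 0) : S.Mover M pr z := by
  set z₀ := pr z with hz₀def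
  have hz₀ : pr z₀ = z₀ := P.idem z
  have hiso : ∀ c, pr c = c → S.B c c = 0 → S.B z₀ c ≠ 0 → S.Mover M pr z := fun c hc hcc hne =>
    ⟨c, hc, by rwa [← P.B_eq hc], {a | S.Skew a}, S.span_skew, fun a ha => hM.exists_trans hcc ha⟩
  by_cases hzz : S.B z₀ z₀ = 0
  · obtain ⟨y, hy⟩ := S.exists_partner_left hz
    have hy' : S.B z₀ (pr y) ≠ 0 := by rwa [← P.sa, hz₀]
    obtain ⟨k, hk⟩ := S.exists_iso_add hzz hy'
    refine hiso _ ?_ hk ?_
    · rw [map_add, map_smul, P.idem, hz₀]
    · rwa [S.B_add_right, S.B_smul_right, hzz, mul_zero, add_zero]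
  rcases hW with ⟨l, hl⟩ | hW
  · refine ⟨z₀, hz₀, by rwa [← P.B_eq hz₀], Set.range fun i : ℕ => (l ^ i - 1) / S.B z₀ z₀, ?_, ?_⟩
    · set U := Submodule.span F (Set.range fun i : ℕ => (l ^ i - 1) / S.B z₀ z₀) with hU
      have hp : ∀ i : ℕ, l ^ i * ((l - 1) / S.B z₀ z₀) ∈ U := fun i => by
        rw [show l ^ i * ((l - 1) / S.B z₀ z₀) =
          (l ^ (i + 1) - 1) / S.B z₀ z₀ - (l ^ i - 1) / S.B z₀ z₀ by ring]
        exact U.sub_mem (Submodule.subset_span ⟨i + 1, rfl⟩) (Submodule.subset_span ⟨i, rfl⟩)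
      haveI := Subalgebra.isSimpleOrder_of_finrank_prime F K hr
      have htop : Algebra.adjoin F {l} = ⊤ := (eq_bot_or_eq_top _).resolve_left fun h => by
        have h1 : l ∈ (⊥ : Subalgebra F K) := h ▸ Algebra.self_mem_adjoin_singleton F l
        obtain ⟨a, ha⟩ := Algebra.mem_bot.1 h1
        exact hl.notMem a ha
      have hne : (l - 1) / S.B z₀ z₀ ≠ 0 :=
        div_ne_zero (sub_ne_zero.2 fun h => hl.notMem 1 (by rw [map_one, h])) hzz
      rw [eq_top_iff]
      intro k _
      have hmem : k / ((l - 1) / S.B z₀ z₀) ∈ Algebra.adjoin F {l} := htop ▸ Algebra.mem_top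
      rw [Algebra.adjoin_singleton_eq_range_aeval] at hmem
      obtain ⟨p, hp'⟩ := hmem
      rw [← div_mul_cancel₀ k hne, ← hp']
      clear hp'
      induction p using Polynomial.induction_on' with
      | add p p' h h' => simpa [add_mul] using U.add_mem h h'
      | monomial i c =>
        simpa [Algebra.smul_def, mul_assoc] using U.smul_mem c (hp i)
    · rintro _ ⟨i, rfl⟩
      exact hM.exists_refl hzz (by rw [map_pow, ← mul_pow, hl.unit, one_pow])
        (by rw [map_pow, hl.norm, one_pow])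
  obtain ⟨p, hp, hp0, hpz⟩ := hW z₀ hz₀ hzz
  obtain ⟨z₁, hz₁, hz₁z, hz₁n⟩ : ∃ z₁, pr z₁ = z₁ ∧ S.B z₁ z₀ = 0 ∧ S.B z₁ z₁ = -S.B z₀ z₀ := by
    by_cases hpp : S.B p p = 0
    swap
    · obtain ⟨k, hk⟩ := S.exists_norm (n := -S.B z₀ z₀ / S.B p p) (by rw [map_div₀, map_neg, κB, κB])
      refine ⟨k • p, by rw [map_smul, hp], by rw [S.B_smul_left, hpz, mul_zero], ?_⟩
      rw [S.B_smul_left, S.B_smul_right, ← mul_assoc, hk, div_mul_cancel₀ _ hpp]
    obtain ⟨y, hy⟩ := S.exists_partner_left hp0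
    set y' := pr y - (S.B (pr y) z₀ / S.B z₀ z₀) • z₀ with hy'def
    have hy'z : S.B y' z₀ = 0 := by rw [hy'def, S.B_sub_left, S.B_smul_left, div_mul_cancel₀ _ hzz, sub_self]
    have hpy : S.B p y' ≠ 0 := by
      rwa [hy'def, S.B_sub_right, S.B_smul_right, hpz, mul_zero, sub_zero, ← P.sa, hp]
    have hyp : S.B y' p ≠ 0 := fun h => hpy (S.symm_zero h)
    obtain ⟨j, hj⟩ := S.exists_half (n := -S.B z₀ z₀ - S.B y' y') (by rw [map_sub, map_neg, κB, κB])
    refine ⟨y' + (j / S.B p y') • p, ?_, ?_, ?_⟩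
    · rw [hy'def, map_add, map_sub, map_smul, map_smul, P.idem, hz₀, hp]
    · rw [S.B_add_left, S.B_smul_left, hy'z, hpz, mul_zero, add_zero]
    · simp only [S.B_add_left, S.B_add_right, S.B_smul_left, S.B_smul_right, hpp, map_div₀, κB]
      rw [div_mul_cancel₀ _ hpy, div_mul_cancel₀ _ hyp]
      linear_combination hj
  refine hiso (z₀ + z₁) (by rw [map_add, hz₀, hz₁]) ?_ ?_
  · simp only [S.B_add_left, S.B_add_right, hz₁z, S.symm_zero hz₁z, hz₁n]
    ring
  · rwa [S.B_add_right, S.symm_zero hz₁z, add_zero]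

/-- The subspace can be moved. -/
theorem Mover.exists_move {pr : V →ₗ[K] V} (P : S.Proj pr) {z : V} (h : S.Mover M pr z) {L : Submodule F V}
    (hzL : z ∈ L) (hLr : finrank F L = finrank F K) (hline : ∀ u, L ≠ line F K u) :
    ∃ t ∈ M, (∀ x, pr x = 0 → (t : Module.End F V) x = x) ∧ L.map (t : Module.End F V) ≠ L := by
  obtain ⟨c, hc, hzc, A, hA, ht⟩ := h
  by_contra hcon
  push Not at hcon
  refine hline c (Submodule.eq_of_le_of_finrank_le (fun y hy => ?_) ?_).symm
  · obtain ⟨k, rfl⟩ := mem_line.1 hy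
    have : ∀ a : K, (a * S.B z c) • c ∈ L := fun a => by
      have ha : a ∈ Submodule.span F A := hA ▸ Submodule.mem_top
      induction ha using Submodule.span_induction with
      | mem b hb =>
        obtain ⟨t, htM, htx⟩ := ht b hb
        have hfix : ∀ x, pr x = 0 → (t : Module.End F V) x = x := fun x hx => by
          rw [htx, ← P.B_eq hc, hx, B_zero_left, mul_zero, zero_smul, add_zero]
        have h1 : (t : Module.End F V) z ∈ L := hcon t htM hfix ▸ Submodule.mem_map_of_mem hzL
        rw [htx] at h1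
        simpa using L.sub_mem h1 hzL
      | zero => simp
      | add p p' _ _ hp hp' => rw [add_mul, add_smul]; exact L.add_mem hp hp'
      | smul s p _ hp => rw [smul_mul_assoc, smul_assoc]; exact L.smul_mem s hp
    simpa [div_mul_cancel₀ _ hzc] using this (k / S.B z c)
  · rw [hLr, finrank_line]
    rintro rfl
    simp at hzc

/-- An isotropic vector can be moved out of its orthogonal. -/
theorem Mover.exists_pairing {pr : V →ₗ[K] V} (P : S.Proj pr) {z : V} (h : S.Mover M pr z) (hz : S.f z z = 0) :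
    ∃ t ∈ M, (∀ x, pr x = 0 → (t : Module.End F V) x = x) ∧ S.f z ((t : Module.End F V) z) ≠ 0 := by
  obtain ⟨c, hc, hzc, A, hA, ht⟩ := h
  by_contra hcon
  push Not at hcon
  have hN : S.κ (S.B z c) * S.B z c ≠ 0 := mul_ne_zero (by simpa using hzc) hzc
  have key : ∀ a : K, (tr (S.κ a * (S.κ (S.B z c) * S.B z c)) : F) = 0 := fun a => by
    have ha : a ∈ Submodule.span F A := hA ▸ Submodule.mem_top
    induction ha using Submodule.span_induction with
    | mem b hb =>
      obtain ⟨t, htM, htx⟩ := ht b hb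
      have hfix : ∀ x, pr x = 0 → (t : Module.End F V) x = x := fun x hx => by
        rw [htx, ← P.B_eq hc, hx, B_zero_left, mul_zero, zero_smul, add_zero]
      have h1 := hcon t htM hfix
      rw [htx, f_add_right, hz, zero_add, f, S.B_smul_right, map_mul S.κ, mul_assoc] at h1
      exact h1
    | zero => simp
    | add p p' _ _ hp hp' => rw [map_add, add_mul, map_add, hp, hp', add_zero]
    | smul s p _ hp => rw [κ_smul, smul_mul_assoc, map_smul, hp, smul_zero]
  exact hN (eq_zero_of_tr (F := F) fun k => by simpa using key (S.κ k))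

end Cfsg.Agent.H58.SUExt.UForm
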