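import Cfsg.Agent.H58.SUExt.Shift

/-!
The transvections along an isotropic `K`-line from a hyperplane configuration.
-/

set_option autoImplicit false
set_option linter.unusedSectionVars false
set_option linter.style.haveILetI false
set_option linter.unusedVariables false

namespace Cfsg.Agent.H58.SUExt.UForm

open Module Cfsg.Agent.H98.ExtField

variable {F : Type*} [Field F] [Fintype F] {K : Type*} [Field K] [Fintype K] [Algebra F K]
  {V : Type*} [AddCommGroup V] [Module F V] [Module K V] [IsScalarTower F K V] [FiniteDimensional F V]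
  {S : UForm F K V} {M : Subgroup (Module.End F V)ˣ}

variable (S M) in
/-- `M` induces on the isotropic line of `w` the transvections `k ↦ k + c tr(k κy) i`. -/
structure Pair (w : V) (i y : K) : Prop where
  iso : S.B w w = 0
  w_ne : w ≠ 0
  i_ne : i ≠ 0
  y_ne : y ≠ 0
  perp : (tr (i * S.κ y) : F) = 0
  shear : ∀ c : F, S.σ c = c → ∃ t ∈ M, ∀ k : K,
    (t : Module.End F V) (k • w) = (k + (c * tr (k * S.κ y)) • i) • w

theorem Over.exists_pair (hM : S.Over M) (hr : 2 ≤ finrank F K) (h : S.HasCfg M (finrank F K - 1)) :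
    ∃ (w : V) (i y : K), S.Pair M w i y := by
  obtain ⟨g, hg, v, w, x, hv, hw, hwL, hxL, hxw, hd⟩ := h
  set L := (line F K v).map (g : Module.End F V) with hL
  have hw0 : w ≠ 0 := by rintro rfl; simp at hxw
  set y := S.B x w with hy
  set J : Submodule F K := L.comap (smulMap F K w) with hJdef
  have hJd : finrank F J + 1 = finrank F K := by
    rw [(Submodule.equivMapOfInjective _ (smulMap_injective hw0) J).finrank_eq, hJdef, Submodule.map_comap_eq,
      inf_comm, show LinearMap.range (smulMap F K w) = line F K w from rfl, hd]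
    omega
  set ψ : K →ₗ[F] F := tr ∘ₗ LinearMap.mulRight F (S.κ y) with hψ
  have hψa : ∀ k, ψ k = tr (k * S.κ y) := fun k => rfl
  have hfψ : ∀ k, S.f (k • w) x = ψ k := fun k => by rw [f, S.B_smul_left, hψa, hy, κB]
  obtain ⟨y₁, hy₁⟩ : ∃ k, ψ k ≠ 0 := by
    by_contra h0
    push Not at h0
    exact hxw (by simpa using eq_zero_of_tr (F := F) h0)
  set y₀ := (ψ y₁)⁻¹ • y₁ with hy₀
  have hy₀1 : ψ y₀ = 1 := by rw [hy₀, map_smul, smul_eq_mul, inv_mul_cancel₀ hy₁]
  have hker : J = LinearMap.ker ψ := by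
    refine Submodule.eq_of_le_of_finrank_le (fun j hj => ?_) ?_
    · rw [LinearMap.mem_ker, ← hfψ]
      exact hM.f_image hg hv hj hxL
    · have : finrank F (LinearMap.ker ψ) < finrank F K :=
        Submodule.finrank_lt fun h => hy₁ (LinearMap.mem_ker.1 (h.symm ▸ Submodule.mem_top))
      omega
  set gi : Module.End F V := ((g⁻¹ : (Module.End F V)ˣ) : Module.End F V) with hgi
  have hLv : ∀ z ∈ L, gi z ∈ line F K v := fun z hz => by
    obtain ⟨a, ha, rfl⟩ := hz
    rwa [hgi, inv_apply]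
  set v' := gi w with hv'
  have hv'0 : v' ≠ 0 := fun h => hw0 (injective_coe g⁻¹ (by rw [← hgi, ← hv', h, map_zero]))
  have hlv : line F K v = line F K v' := (line_eq_of_mem (hLv w hwL) hv'0).symm
  have hv'iso : S.B v' v' = 0 := B_line hv (hLv w hwL) (hLv w hwL)
  set d₀ := S.B (gi (y₀ • w)) v' with hd₀
  have hd0 : d₀ ≠ 0 := by
    intro h
    obtain ⟨k, hk⟩ := mem_line.1 (hlv ▸ hLv x hxL)
    apply one_ne_zero (α := F)
    rw [← hy₀1, ← hfψ, ← hM.iso g⁻¹ (M.inv_mem hg), ← hgi, ← hk, f, S.B_smul_right, ← hd₀, h, mul_zero,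
      map_zero]
  set J' : Submodule F K := (line F K w).comap ((g : Module.End F V) ∘ₗ smulMap F K v') with hJ'
  have hJ'd : finrank F J' + 1 = finrank F K := by
    have hinj : Function.Injective ((g : Module.End F V) ∘ₗ smulMap F K v') :=
      (injective_coe g).comp (smulMap_injective hv'0)
    have hrng : LinearMap.range ((g : Module.End F V) ∘ₗ smulMap F K v') = L := by
      rw [LinearMap.range_comp, show LinearMap.range (smulMap F K v') = line F K v' from rfl, ← hlv]
    rw [(Submodule.equivMapOfInjective _ hinj J').finrank_eq, hJ', Submodule.map_comap_eq, hrng, hd]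
    omega
  obtain ⟨a, ha, ha0, had⟩ : ∃ a : K, S.Skew a ∧ a ≠ 0 ∧ a * d₀ ∈ J' := by
    by_contra hcon
    push Not at hcon
    let Φ : {a : K // S.Skew a} × J' → K := fun T => T.1.1 * d₀ + T.2.1
    have hΦ : Function.Injective Φ := by
      rintro ⟨⟨a, ha⟩, ⟨p, hp⟩⟩ ⟨⟨a', ha'⟩, ⟨p', hp'⟩⟩ heq
      simp only [Φ] at heq
      have h2 : (a - a') * d₀ ∈ J' := by
        rw [show (a - a') * d₀ = p' - p by linear_combination heq]
        exact J'.sub_mem hp' hp
      have h3 : a - a' = 0 := by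
        by_contra h0
        have hs : S.Skew (a - a') := show S.κ (a - a') = -(a - a') by
          rw [map_sub, show S.κ a = -a from ha, show S.κ a' = -a' from ha']; ring
        exact hcon _ hs h0 h2
      rw [sub_eq_zero] at h3
      subst h3
      rw [add_right_inj] at heq
      subst heq
      rfl
    have hle := Nat.card_le_card_of_injective Φ hΦ
    rw [Nat.card_prod, card_skew, Module.natCard_eq_pow_finrank (K := F) (V := J'),
      Nat.card_eq_fintype_card (α := F), S.hF, Nat.card_eq_fintype_card (α := K), S.hK, ← pow_mul, ← pow_add,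
      ← pow_mul] at hle
    have := (Nat.pow_le_pow_iff_right (Unitary.two_le_q S.hF)).1 hle
    obtain ⟨j, hj⟩ := S.hr
    omega
  obtain ⟨i, hi⟩ := mem_line.1 (had : (g : Module.End F V) ((a * d₀) • v') ∈ line F K w)
  have hi0 : i ≠ 0 := by
    rintro rfl
    rw [zero_smul] at hi
    exact mul_ne_zero ha0 hd0 ((smul_eq_zero.1 (injective_coe g (hi.symm.trans (map_zero _).symm))).resolve_right hv'0)
  have hiJ : i ∈ J := by
    show i • w ∈ L
    rw [hi, hL, hlv]
    exact Submodule.mem_map_of_mem ⟨_, rfl⟩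
  refine ⟨w, i, y, hw, hw0, hi0, hxw, by rw [← hψa, ← LinearMap.mem_ker, ← hker]; exact hiJ, fun c hc => ?_⟩
  obtain ⟨t, ht, htx⟩ := hM.exists_trans hv'iso (a := c • a) (show S.κ (c • a) = -(c • a) by
    rw [κ_smul, hc, show S.κ a = -a from ha, smul_neg])
  refine ⟨g * t * g⁻¹, M.mul_mem (M.mul_mem hg ht) (M.inv_mem hg), fun k => ?_⟩
  have hk : (k - ψ k • y₀) • w ∈ L := by
    have : k - ψ k • y₀ ∈ J := by
      rw [hker, LinearMap.mem_ker, map_sub, map_smul, smul_eq_mul, hy₀1, mul_one, sub_self]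
    exact this
  have hfix : S.B (gi ((k - ψ k • y₀) • w)) v' = 0 := B_line hv'iso (hlv ▸ hLv _ hk) (self_mem_line v')
  have hBk : S.B (gi (k • w)) v' = ψ k • d₀ := by
    rw [sub_smul, map_sub, S.B_sub_left, sub_eq_zero] at hfix
    rw [hfix, smul_assoc, map_smul, ← algebraMap_smul K (ψ k) (gi (y₀ • w)), S.B_smul_left, ← Algebra.smul_def,
      ← hd₀]
  rw [Units.val_mul, Units.val_mul, Module.End.mul_apply, Module.End.mul_apply, htx, ← hgi, hBk,
    map_add, hgi, apply_inv, hψa, add_smul]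
  congr 1
  rw [smul_mul_assoc, mul_smul_comm, smul_smul, smul_assoc, map_smul]
  rw [show (g : Module.End F V) ((a * d₀) • v') = i • w from hi.symm, ← smul_assoc]

variable (S M) in
/-- Some element `1 + N` of `M` has `N x = Φ (B x w) • w`. -/
def InR (w : V) (Φ : K → K) : Prop := ∃ N, MN M N ∧ ∀ x, N x = Φ (S.B x w) • w

theorem InR.congr {w : V} {Φ Φ' : K → K} (h : S.InR M w Φ) (e : ∀ k, Φ k = Φ' k) : S.InR M w Φ' := by
  rwa [← funext e]

theorem InR.sub {w : V} (hw : S.B w w = 0) (hw0 : w ≠ 0) {Φ Φ' : K → K} (h : S.InR M w Φ)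
    (h' : S.InR M w Φ') : S.InR M w (fun k => Φ k - Φ' k) := by
  obtain ⟨N, hN, hNu⟩ := h
  obtain ⟨N', hN', hNu'⟩ := h'
  have h0 : Φ 0 = 0 := by simpa [hw0, eq_comm] using hNu 0
  have h0' : Φ' 0 = 0 := by simpa [hw0, eq_comm] using hNu' 0
  exact ⟨N - N', hN.sub hN' (LinearMap.ext fun u => by simp [hNu, hNu', S.B_smul_left, hw, h0])
    (LinearMap.ext fun u => by simp [hNu, hNu', S.B_smul_left, hw, h0']), fun u => by simp [hNu, hNu', sub_smul]⟩

theorem InR.add {w : V} (hw : S.B w w = 0) (hw0 : w ≠ 0) {Φ Φ' : K → K} (h : S.InR M w Φ)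
    (h' : S.InR M w Φ') : S.InR M w (fun k => Φ k + Φ' k) := by
  obtain ⟨N, hN, hNu⟩ := h
  obtain ⟨N', hN', hNu'⟩ := h'
  have h0 : Φ 0 = 0 := by simpa [hw0, eq_comm] using hNu 0
  have h0' : Φ' 0 = 0 := by simpa [hw0, eq_comm] using hNu' 0
  exact ⟨N + N', hN.add hN' (LinearMap.ext fun u => by simp [hNu, hNu', S.B_smul_left, hw, h0])
    (LinearMap.ext fun u => by simp [hNu, hNu', S.B_smul_left, hw, h0']), fun u => by simp [hNu, hNu', add_smul]⟩

theorem Over.inR_trans (hM : S.Over M) {w : V} (hw : S.B w w = 0) {a : K} (ha : S.Skew a) :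
    S.InR M w (fun k => a * k) :=
  ⟨_, hM.mn_trans hw ha, fun x => rfl⟩

namespace Pair

variable {w : V} {i y : K} (P : S.Pair M w i y)

include P

theorem mem_E (hM : S.Over M) {c : F} (hc : S.σ c = c) {a : K} (ha : S.Skew a) :
    S.InR M w (fun β => a * β + (c * tr (β * S.κ i)) • (a * y) + (c * tr (a * β * S.κ y)) • i +
      (c * c * tr (β * S.κ i) * tr (a * (y * S.κ y))) • i) := by
  obtain ⟨t, ht, htk⟩ := P.shear c hc
  refine ⟨_, (hM.mn_trans P.iso ha).conj ht, fun x => ?_⟩
  set u := ((t⁻¹ : (Module.End F V)ˣ) : Module.End F V) x with hu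
  have hβ : S.B u w = S.B x w + (c * tr (S.B x w * S.κ i)) • y := by
    refine sub_eq_zero.1 (eq_zero_of_tr (F := F) fun k => ?_)
    have h1 : S.f u (S.κ k • w) = S.f x ((t : Module.End F V) (S.κ k • w)) := by
      rw [hu, ← hM.iso t ht, apply_inv]
    rw [htk, f, f, S.B_smul_right, S.B_smul_right, κκ, map_add, κκ, κ_smul, map_mul S.σ, hc, σ_tr,
      map_mul S.κ (S.κ k), κκ, κκ, add_mul, map_add, smul_mul_assoc, map_smul, smul_eq_mul, mul_comm (S.κ i)] at h1
    rw [mul_sub, map_sub, mul_add, map_add, mul_smul_comm, map_smul, smul_eq_mul, h1]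
    ring
  rw [Module.End.mul_apply, Module.End.mul_apply, ← hu, LinearMap.restrictScalars_apply,
    LinearMap.smulRight_apply, LinearMap.smul_apply, Bl_apply, smul_eq_mul, htk, hβ]
  congr 1
  rw [mul_add, mul_smul_comm, add_mul, map_add, smul_mul_assoc, map_smul, smul_eq_mul, mul_add, add_smul,
    mul_assoc a y]
  module

theorem root_of_inR (h : ∀ l : F, S.σ l = -l → S.InR M w (fun β => (l * tr (β * S.κ i)) • i)) :
    S.Root M (i • w) := by
  intro l hl
  obtain ⟨N, hN, hNx⟩ := h l hl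
  convert hN using 1
  refine LinearMap.ext fun x => ?_
  rw [hNx, LinearMap.smulRight_apply, LinearMap.smul_apply, fL_apply, smul_eq_mul, f, S.B_smul_right,
    mul_comm (S.κ i), ← smul_assoc]

/-- A root group, for `q` at least three. -/
theorem root (hM : S.Over M) (hq : 3 ≤ S.q) : S.Root M (i • w) := by
  refine P.root_of_inR fun l hl => ?_
  obtain ⟨c, hc, hc0, hc1⟩ := Unitary.exists_fixed_ne S.hF hq
  have hσc : S.σ c = c := hc
  have hd : c * c - c ≠ 0 := by
    rw [show c * c - c = c * (c - 1) by ring]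
    exact mul_ne_zero hc0 (sub_ne_zero.2 hc1)
  set l' := l / (c * c - c) with hl'
  have hl's : S.σ l' = -l' := by rw [hl', map_div₀, hl, map_sub, map_mul, hσc, neg_div]
  obtain ⟨e, he⟩ := Unitary.exists_trace_ne_zero S.hF
  have hN0 : y * S.κ y ≠ 0 := mul_ne_zero P.y_ne (by simpa using P.y_ne)
  obtain ⟨k₁, hk₁⟩ : ∃ k : K, (tr (k * (y * S.κ y)) : F) ≠ 0 := by
    by_contra h0
    push Not at h0
    exact hN0 (eq_zero_of_tr (F := F) h0)
  set k := ((l' * e / (e + S.σ e)) / tr (k₁ * (y * S.κ y))) • k₁ with hkdef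
  have hk : (tr (k * (y * S.κ y)) : F) = l' * e / (e + S.σ e) := by
    rw [hkdef, smul_mul_assoc, map_smul, smul_eq_mul, div_mul_cancel₀ _ hk₁]
  set a := k - S.κ k with ha
  have has : S.Skew a := show S.κ a = -a by rw [ha, map_sub, κκ]; ring
  have he' : e + S.σ e ≠ 0 := he
  have htra : (tr (a * (y * S.κ y)) : F) = l' := by
    have h2 : (tr (S.κ k * (y * S.κ y)) : F) = S.σ (l' * e / (e + S.σ e)) := by
      rw [← hk, σ_tr]
      congr 1
      simp only [map_mul, κκ]
      ring
    rw [ha, sub_mul, map_sub, hk, h2, map_div₀, map_mul, hl's, map_add, σσ, add_comm (S.σ e)]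
    field_simp
    ring
  have hca : S.Skew (c • a) := show S.κ (c • a) = -(c • a) by
    rw [κ_smul, hσc, show S.κ a = -a from has, smul_neg]
  have hca' : S.Skew (a - c • a) := show S.κ (a - c • a) = -(a - c • a) by
    rw [map_sub, show S.κ a = -a from has, show S.κ (c • a) = -(c • a) from hca]; ring
  refine ((InR.sub P.iso P.w_ne (InR.sub P.iso P.w_ne (P.mem_E hM hσc has)
    (P.mem_E hM (c := 1) (map_one _) hca)) (hM.inR_trans P.iso hca'))).congr fun β => ?_
  have hld : (c * c - c) * l' = l := by rw [hl', mul_div_cancel₀ _ hd]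
  simp only [one_mul, smul_mul_assoc, map_smul, smul_eq_mul, sub_mul, htra]
  rw [← hld]
  module

end Pair

end Cfsg.Agent.H58.SUExt.UForm
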