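import Cfsg.Agent.H58.SUExt.Basic

/-!
Arithmetic of the trace of `K` over `F`: a skew element moving one vector of `P = J⊥` into `J` but not all of `P`.
-/

set_option autoImplicit false
set_option linter.unusedSectionVars false
set_option linter.style.haveILetI false

namespace Cfsg.Agent.H58.SUExt.UForm

open Module

variable {F : Type*} [Field F] [Fintype F] {K : Type*} [Field K] [Fintype K] [Algebra F K]
  {V : Type*} [AddCommGroup V] [Module F V] [Module K V] [IsScalarTower F K V]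

/-- The conjugate of a subspace. -/
def conjSub (S : UForm F K V) (J : Submodule F K) : Submodule F K where
  carrier := {k | S.κ k ∈ J}
  add_mem' := fun {a b} ha hb => by show S.κ (a + b) ∈ J; rw [map_add]; exact J.add_mem ha hb
  zero_mem' := by show S.κ 0 ∈ J; rw [map_zero]; exact J.zero_mem
  smul_mem' := fun c a ha => by show S.κ (c • a) ∈ J; rw [κ_smul]; exact J.smul_mem _ ha

variable {S : UForm F K V}

theorem finrank_conjSub (J : Submodule F K) : finrank F (S.conjSub J) = finrank F J := by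
  have h1 : Nat.card (S.conjSub J) = Nat.card J :=
    Nat.card_congr (S.κ.toEquiv.subtypeEquiv fun a => Iff.rfl)
  rw [Module.natCard_eq_pow_finrank (K := F) (V := J), Module.natCard_eq_pow_finrank (K := F) (V := S.conjSub J)] at h1
  exact Nat.pow_right_injective (by rw [Nat.card_eq_fintype_card]; exact Fintype.one_lt_card) h1

theorem orth_pair {J P : Submodule F K} (h : finrank F J + finrank F P = finrank F K)
    (hperp : ∀ j ∈ J, ∀ p ∈ P, (tr (p * S.κ j) : F) = 0) :
    (∀ k : K, (∀ j ∈ J, (tr (k * S.κ j) : F) = 0) → k ∈ P) ∧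
      ∀ k : K, (∀ p ∈ P, (tr (p * S.κ k) : F) = 0) → k ∈ J := by
  have hnd := traceForm_nondegenerate F K
  have e1 : P = (Algebra.traceForm F K).orthogonal (S.conjSub J) := by
    refine Submodule.eq_of_le_of_finrank_eq (fun p hp => ?_) ?_
    · rw [LinearMap.BilinForm.mem_orthogonal_iff]
      intro n hn
      show Algebra.traceForm F K n p = 0
      rw [Algebra.traceForm_apply, mul_comm]
      have := hperp _ hn p hp
      rwa [κκ] at this
    · rw [LinearMap.BilinForm.finrank_orthogonal hnd, finrank_conjSub]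
      omega
  have e2 : S.conjSub J = (Algebra.traceForm F K).orthogonal P := by
    refine Submodule.eq_of_le_of_finrank_eq (fun n hn => ?_) ?_
    · rw [LinearMap.BilinForm.mem_orthogonal_iff]
      intro p hp
      show Algebra.traceForm F K p n = 0
      rw [Algebra.traceForm_apply]
      have := hperp _ hn p hp
      rwa [κκ] at this
    · rw [LinearMap.BilinForm.finrank_orthogonal hnd, finrank_conjSub]
      omega
  refine ⟨fun k hk => ?_, fun k hk => ?_⟩
  · rw [e1, LinearMap.BilinForm.mem_orthogonal_iff]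
    intro n hn
    show Algebra.traceForm F K n k = 0
    rw [Algebra.traceForm_apply, mul_comm]
    simpa using hk _ hn
  · have : S.κ k ∈ S.conjSub J := by
      rw [e2, LinearMap.BilinForm.mem_orthogonal_iff]
      intro p hp
      show Algebra.traceForm F K p (S.κ k) = 0
      rw [Algebra.traceForm_apply]
      exact hk p hp
    simpa [conjSub] using this

theorem exists_skew_coords (S : UForm F K V) {e : F} (he : S.σ e ≠ e) (k : K) :
    ∃ a₁ a₂ : K, S.Skew a₁ ∧ S.Skew a₂ ∧ k = a₁ + e • a₂ := by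
  obtain ⟨d, hd0, hd⟩ := S.exists_skewF
  obtain ⟨c₁, c₂, h₁, h₂, hk⟩ := S.exists_decomp he (d⁻¹ • k)
  refine ⟨d • c₁, d • c₂, ?_, ?_, ?_⟩
  · show S.κ (d • c₁) = -(d • c₁)
    rw [κ_smul, hd, h₁, neg_smul]
  · show S.κ (d • c₂) = -(d • c₂)
    rw [κ_smul, hd, h₂, neg_smul]
  · rw [smul_comm e d c₂, ← smul_add, ← hk, smul_inv_smul₀ hd0]

theorem exists_shift_small (hq : 2 ≤ S.q) {J P : Submodule F K} (h : finrank F J + finrank F P = finrank F K)
    (hperp : ∀ j ∈ J, ∀ p ∈ P, (tr (p * S.κ j) : F) = 0) (hJ : J ≠ ⊥) (hd : 2 * finrank F J + 1 ≤ finrank F K) :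
    ∃ a : K, S.Skew a ∧ ∃ p ∈ P, p ≠ 0 ∧ a * p ∈ J ∧ ∃ p' ∈ P, a * p' ∉ J := by
  obtain ⟨j, hjJ, hj0⟩ := J.ne_bot_iff.1 hJ
  obtain ⟨e, he, he0, hej⟩ : ∃ e : K, S.Skew e ∧ e ≠ 0 ∧ e * j ∈ P := by
    by_contra hcon
    push Not at hcon
    obtain ⟨x, hx⟩ := Unitary.exists_trace_eq S.hF (a := (1 : F)) (one_pow _)
    obtain ⟨k₁, hk₁⟩ : ∃ k : K, (tr (k * S.κ j) : F) ≠ 0 := by
      by_contra h0
      push Not at h0
      exact hj0 (by simpa using eq_zero_of_tr (F := F) h0)
    set k₀ := (x / tr (k₁ * S.κ j)) • k₁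
    have hk₀ : (tr (k₀ * S.κ j) : F) = x := by
      rw [smul_mul_assoc, map_smul, smul_eq_mul, div_mul_cancel₀ _ hk₁]
    have hh : ∀ a : K, S.Skew a → (tr (a * j * S.κ j) : F) + S.σ (tr (a * j * S.κ j)) = 0 := fun a ha => by
      rw [σ_tr, ← map_add, map_mul, map_mul, κκ, show S.κ a = -a from ha,
        show a * j * S.κ j + -a * S.κ j * j = 0 by ring, map_zero]
    let Φ : {a : K // S.Skew a} × P × Unitary.fixK S.hF → K := fun T => T.1.1 * j + T.2.1.1 + T.2.2.1 • k₀
    have hΦ : Function.Injective Φ := by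
      rintro ⟨⟨a, ha⟩, ⟨p, hp⟩, ⟨c, hc⟩⟩ ⟨⟨a', ha'⟩, ⟨p', hp'⟩, ⟨c', hc'⟩⟩ heq
      simp only [Φ] at heq
      have hcc : c = c' := by
        have h1 := congrArg (fun k => (tr (k * S.κ j) : F) + S.σ (tr (k * S.κ j))) heq
        simp only [add_mul, map_add, smul_mul_assoc, map_smul, smul_eq_mul, hk₀, map_mul S.σ, hperp j hjJ p hp,
          hperp j hjJ p' hp', map_zero] at h1
        have hσc : S.σ c = c := hc
        have hσc' : S.σ c' = c' := hc'
        have hx' : x + S.σ x = 1 := hx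
        linear_combination h1 - hh a ha + hh a' ha' - (c - c') * hx' + S.σ x * (-hσc) + S.σ x * hσc'
      subst hcc
      rw [add_left_inj] at heq
      have h2 : (a - a') * j ∈ P := by
        rw [show (a - a') * j = p' - p by linear_combination heq]
        exact P.sub_mem hp' hp
      have h3 : a - a' = 0 := by
        by_contra h0
        have hs : S.Skew (a - a') := show S.κ (a - a') = -(a - a') by
          rw [map_sub, show S.κ a = -a from ha, show S.κ a' = -a' from ha']; ring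
        exact hcon _ hs h0 h2
      rw [sub_eq_zero] at h3
      subst h3
      rw [add_right_inj] at heq
      subst heq
      rfl
    have hle := Nat.card_le_card_of_injective Φ hΦ
    rw [Nat.card_prod, Nat.card_prod, card_skew, Unitary.card_fixK, Module.natCard_eq_pow_finrank (K := F),
      Nat.card_eq_fintype_card (α := F), S.hF, Nat.card_eq_fintype_card (α := K), S.hK, ← pow_mul, ← pow_succ,
      ← pow_add, ← pow_mul] at hle
    have := (Nat.pow_le_pow_iff_right hq).1 hle
    omega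
  have hai : S.Skew e⁻¹ := show S.κ e⁻¹ = -e⁻¹ by rw [map_inv₀, show S.κ e = -e from he, inv_neg]
  refine ⟨e⁻¹, hai, e * j, hej, mul_ne_zero he0 hj0, by rwa [inv_mul_cancel_left₀ he0], ?_⟩
  by_contra hcon
  push Not at hcon
  have hle : finrank F P ≤ finrank F J := by
    rw [(Submodule.equivMapOfInjective (LinearMap.mulLeft F e⁻¹)
      (fun a b hab => mul_left_cancel₀ (inv_ne_zero he0) hab) P).finrank_eq]
    exact Submodule.finrank_mono (Submodule.map_le_iff_le_comap.2 fun p hp => hcon p hp)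
  omega

theorem exists_shift_five (hq : 2 ≤ S.q) {J P : Submodule F K} (h : finrank F J + finrank F P = finrank F K)
    (hperp : ∀ j ∈ J, ∀ p ∈ P, (tr (p * S.κ j) : F) = 0) (hr : finrank F K = 5) (hd : finrank F J = 3) :
    ∃ a : K, S.Skew a ∧ ∃ p ∈ P, p ≠ 0 ∧ a * p ∈ J ∧ ∃ p' ∈ P, a * p' ∉ J := by
  obtain ⟨-, hJo⟩ := orth_pair h hperp
  have hP : finrank F P = 2 := by omega
  by_contra hcon
  push Not at hcon
  have hspan : ∀ p₁ p₂ : K, p₁ ∈ P → p₂ ∈ P → LinearIndependent F ![p₁, p₂] →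
      ∀ k, (tr (p₁ * S.κ k) : F) = 0 → (tr (p₂ * S.κ k) : F) = 0 → k ∈ J := by
    intro p₁ p₂ hp₁ hp₂ hli k h1 h2
    refine hJo k fun p hp => ?_
    have heq : Submodule.span F (Set.range ![p₁, p₂]) = P := by
      refine Submodule.eq_of_le_of_finrank_le (Submodule.span_le.2 ?_)
        (by rw [finrank_span_eq_card hli, hP, Fintype.card_fin])
      rintro _ ⟨i, rfl⟩
      fin_cases i <;> simpa
    rw [← heq] at hp
    induction hp using Submodule.span_induction with
    | mem x hx =>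
      obtain ⟨i, rfl⟩ := hx
      fin_cases i <;> simpa
    | zero => simp
    | add a b _ _ ha hb => rw [add_mul, map_add, ha, hb, add_zero]
    | smul c a _ ha => rw [smul_mul_assoc, map_smul, ha, smul_zero]
  obtain ⟨p₁, hp₁, hp₁0⟩ := P.ne_bot_iff.1 (fun h0 => by rw [h0, finrank_bot] at hP; omega)
  obtain ⟨p₂, hp₂, hp₂s⟩ : ∃ p₂ ∈ P, p₂ ∉ Submodule.span F {p₁} := by
    by_contra h0
    push Not at h0
    have := Submodule.finrank_mono (show P ≤ Submodule.span F {p₁} from h0)
    rw [finrank_span_singleton hp₁0] at this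
    omega
  have hli : LinearIndependent F ![p₁, p₂] := by
    rw [LinearIndependent.pair_iff' hp₁0]
    exact fun c hc => hp₂s (Submodule.mem_span_singleton.2 ⟨c, hc⟩)
  -- two independent skew elements in the kernel
  let SK : AddSubgroup K :=
    { carrier := {a | S.Skew a}
      add_mem' := fun {a b} (ha : S.κ a = -a) (hb : S.κ b = -b) =>
        show S.κ (a + b) = -(a + b) by rw [map_add, ha, hb]; ring
      zero_mem' := show S.κ 0 = -0 by simp
      neg_mem' := fun {a} (ha : S.κ a = -a) => show S.κ (-a) = - -a by rw [map_neg, ha] }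
  let χ : SK →+ F × F :=
    { toFun := fun a => (tr (p₁ * S.κ (a.1 * p₁)), tr (p₂ * S.κ (a.1 * p₁)))
      map_zero' := by simp
      map_add' := fun a b => by simp [add_mul, mul_add, map_add] }
  have hχskew : ∀ a : SK, (χ a).1 + S.σ (χ a).1 = 0 := fun a => by
    show (tr (p₁ * S.κ (a.1 * p₁)) : F) + S.σ (tr (p₁ * S.κ (a.1 * p₁))) = 0
    rw [σ_tr, ← map_add, map_mul, map_mul, map_mul, κκ, κκ, show S.κ a.1 = -a.1 from a.2]
    rw [show p₁ * (-a.1 * S.κ p₁) + S.κ p₁ * (a.1 * p₁) = 0 by ring, map_zero]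
  have hrange : Nat.card χ.range ≤ S.q * S.q ^ 2 := by
    rw [show S.q * S.q ^ 2 = Nat.card ({c : F // c + c ^ S.q = 0} × F) by
      rw [Nat.card_prod, Unitary.card_trace_zero S.hF, Nat.card_eq_fintype_card (α := F), S.hF]]
    refine Nat.card_le_card_of_injective
      (fun x : χ.range => ((⟨x.1.1, by obtain ⟨a, ha⟩ := x.2; rw [← ha]; exact hχskew a⟩, x.1.2) :
        {c : F // c + c ^ S.q = 0} × F)) ?_
    rintro ⟨⟨a, b⟩, _⟩ ⟨⟨a', b'⟩, _⟩ heq
    simp only [Prod.mk.injEq, Subtype.mk.injEq] at heq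
    simp [heq]
  have hker : S.q ^ 2 ≤ Nat.card χ.ker := by
    have h1 := χ.ker.card_mul_index
    rw [AddSubgroup.index_ker, show Nat.card SK = S.q ^ 5 by rw [← hr, ← card_skew S]; rfl] at h1
    have h2 : S.q ^ 2 * S.q ^ 3 ≤ Nat.card χ.ker * S.q ^ 3 := by
      calc S.q ^ 2 * S.q ^ 3 = Nat.card χ.ker * Nat.card χ.range := by rw [h1]; ring
        _ ≤ _ := by rw [show S.q ^ 3 = S.q * S.q ^ 2 by ring]; exact Nat.mul_le_mul_left _ hrange
    exact Nat.le_of_mul_le_mul_right h2 (by positivity)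
  have hmemJ : ∀ a : χ.ker, a.1.1 * p₁ ∈ J := fun a => by
    obtain ⟨h1, h2⟩ := Prod.mk.injEq .. ▸ (show χ a.1 = (0, 0) from a.2)
    exact hspan p₁ p₂ hp₁ hp₂ hli _ h1 h2
  obtain ⟨a₂, ha₂0⟩ : ∃ a : χ.ker, a.1.1 ≠ 0 := by
    by_contra h0
    push Not at h0
    haveI : Subsingleton χ.ker := ⟨fun a b => Subtype.ext (Subtype.ext ((h0 a).trans (h0 b).symm))⟩
    have := Nat.card_of_subsingleton (0 : χ.ker)
    nlinarith
  obtain ⟨a₁, ha₁⟩ : ∃ a : χ.ker, ∀ c : F, c • a₂.1.1 ≠ a.1.1 := by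
    by_contra h0
    push Not at h0
    choose c hc using h0
    have hfix : ∀ a, S.σ (c a) = c a := fun a => by
      have h1 : S.κ a.1.1 = -a.1.1 := a.1.2
      rw [← hc a, κ_smul, show S.κ a₂.1.1 = -a₂.1.1 from a₂.1.2, ← smul_neg] at h1
      exact smul_left_injective F (neg_ne_zero.2 ha₂0) h1
    have := Nat.card_le_card_of_injective (fun a => (⟨c a, hfix a⟩ : Unitary.fixK S.hF)) fun a b hab => by
      exact Subtype.ext (Subtype.ext (by rw [← hc a, ← hc b, show c a = c b from congrArg Subtype.val hab]))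
    rw [Unitary.card_fixK] at this
    nlinarith
  have ha₁0 : a₁.1.1 ≠ 0 := fun h0 => ha₁ 0 (by rw [h0, zero_smul])
  have hsub : ∀ a : χ.ker, ∀ p ∈ P, a.1.1 * p ∈ J := fun a =>
    hcon _ a.1.2 p₁ hp₁ hp₁0 (hmemJ a)
  set P₁ := P.map (LinearMap.mulLeft F a₁.1.1) with hP₁
  set P₂ := P.map (LinearMap.mulLeft F a₂.1.1) with hP₂
  have hr₁ : finrank F P₁ = 2 := by
    rw [hP₁, ← (Submodule.equivMapOfInjective _ (fun a b hab => mul_left_cancel₀ ha₁0 hab) P).finrank_eq, hP]
  have hr₂ : finrank F P₂ = 2 := by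
    rw [hP₂, ← (Submodule.equivMapOfInjective _ (fun a b hab => mul_left_cancel₀ ha₂0 hab) P).finrank_eq, hP]
  obtain ⟨z, ⟨⟨p, hp, hpz⟩, p', hp', hpz'⟩, hz0⟩ := (Submodule.ne_bot_iff (P₁ ⊓ P₂)).1 fun h0 => by
    have h1 := Submodule.finrank_sup_add_finrank_inf_eq P₁ P₂
    rw [h0, finrank_bot, hr₁, hr₂] at h1
    have h2 := Submodule.finrank_mono (show P₁ ⊔ P₂ ≤ J from sup_le
      (Submodule.map_le_iff_le_comap.2 fun p hp => hsub a₁ p hp)
      (Submodule.map_le_iff_le_comap.2 fun p hp => hsub a₂ p hp))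
    omega
  simp only [LinearMap.mulLeft_apply] at hpz hpz'
  have hp0 : p ≠ 0 := fun h0 => hz0 (by rw [← hpz, h0, mul_zero])
  set c := a₁.1.1 / a₂.1.1 with hc
  have hκc : S.κ c = c := by
    rw [hc, map_div₀, show S.κ a₁.1.1 = -a₁.1.1 from a₁.1.2, show S.κ a₂.1.1 = -a₂.1.1 from a₂.1.2, neg_div_neg_eq]
  have hcF : ∀ x : F, algebraMap F K x ≠ c := fun x hx => ha₁ x (by
    rw [Algebra.smul_def, hx, hc, div_mul_cancel₀ _ ha₂0])
  have hcp : c * p = p' := by
    rw [hc, div_mul_eq_mul_div, hpz, ← hpz', mul_comm, mul_div_assoc, div_self ha₂0, mul_one]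
  have hli' : LinearIndependent F ![p, c * p] := by
    rw [LinearIndependent.pair_iff' hp0]
    intro x hx
    rw [Algebra.smul_def] at hx
    exact hcF x (mul_right_cancel₀ hp0 hx)
  set N := p * S.κ p with hN
  have hskewkey : ∀ a : K, S.Skew a → (tr (a * N) : F) = 0 → (tr (a * (N * c)) : F) = 0 →
      (tr (a * (N * c * c)) : F) = 0 := by
    intro a ha h1 h2
    have haJ : a * p ∈ J := hspan p (c * p) hp (hcp ▸ hp') hli' _
      (by rw [map_mul S.κ, show S.κ a = -a from ha, ← neg_eq_zero, ← map_neg]; rw [← h1]; congr 1; rw [hN]; ring)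
      (by rw [map_mul S.κ, show S.κ a = -a from ha, ← neg_eq_zero, ← map_neg]; rw [← h2]; congr 1; rw [hN]; ring)
    have h3 : a * (c * p) ∈ J := hcon a ha p hp hp0 haJ _ (hcp ▸ hp')
    have h4 := hperp _ h3 _ (hcp ▸ hp')
    rw [map_mul S.κ, map_mul S.κ, show S.κ a = -a from ha, hκc, ← neg_eq_zero, ← map_neg] at h4
    rw [← h4]
    congr 1
    rw [hN]
    ring
  have hkey : ∀ k : K, (tr (k * N) : F) = 0 → (tr (k * (N * c)) : F) = 0 → (tr (k * (N * c * c)) : F) = 0 := by
    intro k h1 h2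
    obtain ⟨e, he⟩ := S.exists_e
    obtain ⟨b₁, b₂, hb₁, hb₂, rfl⟩ := S.exists_skew_coords he k
    have hκN : S.κ N = N := by rw [hN, map_mul, κκ, mul_comm]
    have hsk : ∀ m : K, S.κ m = m → ∀ a : K, S.Skew a → S.σ (tr (a * m)) = -tr (a * m) := fun m hm a ha => by
      rw [σ_tr, map_mul, hm, show S.κ a = -a from ha, neg_mul, map_neg]
    have hzero : ∀ m : K, S.κ m = m → (tr ((b₁ + e • b₂) * m) : F) = 0 →
        (tr (b₁ * m) : F) = 0 ∧ (tr (b₂ * m) : F) = 0 := by
      intro m hm h0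
      rw [add_mul, map_add, smul_mul_assoc, map_smul, smul_eq_mul] at h0
      have h0' := congrArg S.σ h0
      rw [map_add, map_mul S.σ, hsk m hm b₁ hb₁, hsk m hm b₂ hb₂, map_zero] at h0'
      have h5 : (e - S.σ e) * tr (b₂ * m) = 0 := by linear_combination h0 + h0'
      have h6 := (mul_eq_zero.1 h5).resolve_left (sub_ne_zero.2 (Ne.symm he))
      rw [h6, mul_zero, add_zero] at h0
      exact ⟨h0, h6⟩
    obtain ⟨u1, u2⟩ := hzero N hκN h1
    obtain ⟨w1, w2⟩ := hzero (N * c) (by rw [map_mul, hκN, hκc]) h2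
    rw [add_mul, map_add, smul_mul_assoc, map_smul, hskewkey _ hb₁ u1 w1, hskewkey _ hb₂ u2 w2, smul_zero,
      add_zero]
  set W := Submodule.span F ({N, N * c} : Set K)
  have hW : N * c * c ∈ W := by
    have hsymm : (Algebra.traceForm F K).IsRefl := fun a b hab => by
      rw [Algebra.traceForm_apply] at hab ⊢
      rwa [mul_comm]
    rw [← LinearMap.BilinForm.orthogonal_orthogonal (traceForm_nondegenerate F K) hsymm W,
      LinearMap.BilinForm.mem_orthogonal_iff]
    intro k hk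
    rw [LinearMap.BilinForm.mem_orthogonal_iff] at hk
    have g1 : Algebra.traceForm F K N k = 0 := hk N (Submodule.subset_span (by simp))
    have g2 : Algebra.traceForm F K (N * c) k = 0 := hk (N * c) (Submodule.subset_span (by simp))
    rw [Algebra.traceForm_apply, mul_comm] at g1 g2
    show Algebra.traceForm F K k (N * c * c) = 0
    rw [Algebra.traceForm_apply]
    exact hkey k g1 g2
  obtain ⟨u, v, huv⟩ := Submodule.mem_span_pair.1 hW
  have hN0 : N ≠ 0 := mul_ne_zero hp0 (by simpa using hp0)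
  have hc2 : c * c = u • (1 : K) + v • c := by
    refine mul_left_cancel₀ hN0 ?_
    rw [← mul_assoc, ← huv, mul_add, mul_smul_comm, mul_smul_comm, mul_one]
  let A : Subalgebra F K :=
    { carrier := Submodule.span F ({1, c} : Set K)
      one_mem' := Submodule.subset_span (by simp)
      add_mem' := fun ha hb => Submodule.add_mem _ ha hb
      zero_mem' := Submodule.zero_mem _
      algebraMap_mem' := fun x => by
        rw [Algebra.algebraMap_eq_smul_one]
        exact Submodule.smul_mem _ _ (Submodule.subset_span (by simp))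
      mul_mem' := fun {a b} ha hb => by
        rw [SetLike.mem_coe, Submodule.mem_span_pair] at ha hb ⊢
        obtain ⟨x, y, rfl⟩ := ha
        obtain ⟨x', y', rfl⟩ := hb
        refine ⟨x * x' + y * y' * u, x * y' + y * x' + y * y' * v, ?_⟩
        simp only [mul_add, add_mul, smul_mul_assoc, mul_smul_comm, one_mul, mul_one, hc2]
        module }
  haveI := Subalgebra.isSimpleOrder_of_finrank_prime F K (hr ▸ Nat.prime_five)
  have hA : A = ⊤ := (eq_bot_or_eq_top A).resolve_left fun h0 => by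
    have h1 : c ∈ (⊥ : Subalgebra F K) := h0 ▸ (Submodule.subset_span (by simp) : c ∈ Submodule.span F ({1, c} : Set K))
    obtain ⟨x, hx⟩ := Algebra.mem_bot.1 h1
    exact hcF x hx
  classical
  have h5 : finrank F K ≤ 2 := by
    rw [← finrank_top F K, show (⊤ : Submodule F K) = Submodule.span F ↑({1, c} : Finset K) by
      rw [Finset.coe_pair]
      exact (eq_top_iff.2 fun k _ => show k ∈ A from hA ▸ Algebra.mem_top).symm]
    exact (finrank_span_finset_le_card _).trans Finset.card_le_two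
  omega

/-- The shift for degree three or five. -/
theorem exists_shift (hq : 2 ≤ S.q) (hr : finrank F K = 3 ∨ finrank F K = 5) {J P : Submodule F K}
    (h : finrank F J + finrank F P = finrank F K)
    (hperp : ∀ j ∈ J, ∀ p ∈ P, (tr (p * S.κ j) : F) = 0) (hJ : J ≠ ⊥) (hd : finrank F J + 2 ≤ finrank F K) :
    ∃ a : K, S.Skew a ∧ ∃ p ∈ P, p ≠ 0 ∧ a * p ∈ J ∧ ∃ p' ∈ P, a * p' ∉ J := by
  by_cases hsmall : 2 * finrank F J + 1 ≤ finrank F K
  · exact exists_shift_small hq h hperp hJ hsmall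
  · exact exists_shift_five hq h hperp (by omega) (by omega)

end Cfsg.Agent.H58.SUExt.UForm
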