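import Cfsg.Agent.H58.SUExt.Lines
import Cfsg.Agent.H58.SUExt.Trace

/-!
An element outside the normaliser of `K` gives an image of an isotropic line meeting a nonorthogonal isotropic line
in a hyperplane.
-/

set_option autoImplicit false
set_option linter.unusedSectionVars false
set_option linter.style.haveILetI false
set_option linter.unusedVariables false

namespace Cfsg.Agent.H58.SUExt.UForm

open Module Cfsg.Agent.H98.ExtField

variable {F : Type*} [Field F] [Fintype F] {K : Type*} [Field K] [Fintype K] [Algebra F K]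
  {V : Type*} [AddCommGroup V] [Module F V] [Module K V] [IsScalarTower F K V] [FiniteDimensional F V]
  {S : UForm F K V} {M : Subgroup (Module.End F V)ˣ}

theorem B_line {v a b : V} (hv : S.B v v = 0) (ha : a ∈ line F K v) (hb : b ∈ line F K v) : S.B a b = 0 := by
  obtain ⟨k, rfl⟩ := mem_line.1 ha
  obtain ⟨l, rfl⟩ := mem_line.1 hb
  rw [S.B_smul_left, S.B_smul_right, hv, mul_zero, mul_zero]

theorem Over.f_image (hM : S.Over M) {g : (Module.End F V)ˣ} (hg : g ∈ M) {v a b : V} (hv : S.B v v = 0)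
    (ha : a ∈ (line F K v).map (g : Module.End F V)) (hb : b ∈ (line F K v).map (g : Module.End F V)) :
    S.f a b = 0 := by
  obtain ⟨a', ha', rfl⟩ := ha
  obtain ⟨b', hb', rfl⟩ := hb
  rw [hM.iso g hg, f, B_line hv ha' hb', map_zero]

variable (S M) in
/-- An image of an isotropic line meets a nonorthogonal isotropic line in dimension `d`. -/
def HasCfg (d : ℕ) : Prop :=
  ∃ g ∈ M, ∃ v w x : V, S.B v v = 0 ∧ S.B w w = 0 ∧ w ∈ (line F K v).map (g : Module.End F V) ∧
    x ∈ (line F K v).map (g : Module.End F V) ∧ S.B x w ≠ 0 ∧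
      finrank F ↥((line F K v).map (g : Module.End F V) ⊓ line F K w) = d

/-- Pulling back along `g`. -/
theorem Over.pull (hM : S.Over M) {g : (Module.End F V)ˣ} (hg : g ∈ M) {t : (Module.End F V)ˣ} (ht : t ∈ M)
    {v w : V} (hv : S.B v v = 0) (hw : w ∈ (line F K v).map (g : Module.End F V)) (hw0 : w ≠ 0)
    (htw : (t : Module.End F V) w = w) :
    g⁻¹ * t * g ∈ M ∧ S.B (((g⁻¹ : (Module.End F V)ˣ) : Module.End F V) w)
        (((g⁻¹ : (Module.End F V)ˣ) : Module.End F V) w) = 0 ∧
      ((g⁻¹ : (Module.End F V)ˣ) : Module.End F V) w ∈ (line F K v).map ((g⁻¹ * t * g : (Module.End F V)ˣ) : Module.End F V) ∧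
      line F K (((g⁻¹ : (Module.End F V)ˣ) : Module.End F V) w) = line F K v ∧
      finrank F ↥((line F K v).map ((g⁻¹ * t * g : (Module.End F V)ˣ) : Module.End F V) ⊓
          line F K (((g⁻¹ : (Module.End F V)ˣ) : Module.End F V) w)) =
        finrank F ↥(((line F K v).map (g : Module.End F V)).map (t : Module.End F V) ⊓
          (line F K v).map (g : Module.End F V)) := by
  set gi := ((g⁻¹ : (Module.End F V)ˣ) : Module.End F V) with hgi
  set L := (line F K v).map (g : Module.End F V) with hL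
  have hgw : gi w ∈ line F K v := by
    obtain ⟨a, ha, rfl⟩ := hw
    rwa [hgi, inv_apply]
  have hgw0 : gi w ≠ 0 := fun h => hw0 (injective_coe g⁻¹ (by rw [← hgi, h, map_zero]))
  have hmap : (line F K v).map ((g⁻¹ * t * g : (Module.End F V)ˣ) : Module.End F V) =
      (L.map (t : Module.End F V)).map gi := by
    rw [Units.val_mul, Units.val_mul, Module.End.mul_eq_comp, Module.End.mul_eq_comp, hL, Submodule.map_comp,
      Submodule.map_comp]
  refine ⟨M.mul_mem (M.mul_mem (M.inv_mem hg) ht) hg, B_line hv hgw hgw, ?_, line_eq_of_mem hgw hgw0, ?_⟩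
  · rw [hmap]
    exact Submodule.mem_map_of_mem ⟨w, hw, htw⟩
  · rw [hmap, line_eq_of_mem hgw hgw0, ← map_inv_map g (line F K v), ← hgi, ← hL,
      ← Submodule.map_inf _ (injective_coe g⁻¹), finrank_map_coe]

theorem Over.pull_pairing (hM : S.Over M) {g : (Module.End F V)ˣ} (hg : g ∈ M) {t : (Module.End F V)ˣ}
    (ht : t ∈ M) {v w z : V} (hv : S.B v v = 0) (hw : w ∈ (line F K v).map (g : Module.End F V)) (hw0 : w ≠ 0)
    (htw : (t : Module.End F V) w = w) (hz : z ∈ (line F K v).map (g : Module.End F V))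
    (hf : S.f z ((t : Module.End F V) z) ≠ 0) :
    S.HasCfg M (finrank F ↥(((line F K v).map (g : Module.End F V)).map (t : Module.End F V) ⊓
          (line F K v).map (g : Module.End F V))) := by
  obtain ⟨hmem, hiso, hmemL, hline, hdim⟩ := hM.pull hg ht hv hw hw0 htw
  set gi := ((g⁻¹ : (Module.End F V)ˣ) : Module.End F V) with hgi
  refine ⟨_, hmem, v, gi w, gi ((t : Module.End F V) z), hv, hiso, hmemL, ?_, ?_, hdim⟩
  · obtain ⟨a, ha, rfl⟩ := hz
    exact ⟨a, ha, by simp [hgi]⟩
  · intro h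
    apply hf
    have hgz : gi z ∈ line F K (gi w) := by
      rw [hline]
      obtain ⟨a, ha, rfl⟩ := hz
      rwa [hgi, inv_apply]
    obtain ⟨k, hk⟩ := mem_line.1 hgz
    rw [← hM.iso g⁻¹ (M.inv_mem hg), ← hgi, ← hk, f, S.B_smul_left, S.symm_zero h, mul_zero, map_zero]

theorem Over.step (hM : S.Over M) (hr : (finrank F K).Prime) (hb : S.Big) {g : (Module.End F V)ˣ} (hg : g ∈ M)
    {v w : V} (hv : S.B v v = 0) (hw : S.B w w = 0) (hwL : w ∈ (line F K v).map (g : Module.End F V))
    (hw0 : w ≠ 0) (hne : ∀ u, (line F K v).map (g : Module.End F V) ≠ line F K u) :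
    ∃ d, finrank F ↥((line F K v).map (g : Module.End F V) ⊓ line F K w) ≤ d ∧ S.HasCfg M d := by
  set L := (line F K v).map (g : Module.End F V) with hL
  by_cases hex : ∃ x ∈ L, S.B x w ≠ 0
  · obtain ⟨x, hx, hxw⟩ := hex
    exact ⟨_, le_rfl, g, hg, v, w, x, hv, hw, hwL, hx, hxw, rfl⟩
  push Not at hex
  have hv0 : v ≠ 0 := by
    rintro rfl
    obtain ⟨a, ha, haw⟩ := hwL
    obtain ⟨k, rfl⟩ := mem_line.1 ha
    simp at haw
    exact hw0 haw.symm
  obtain ⟨y, hy, hwy⟩ := S.exists_partner hw hw0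
  have P := projPair_proj hw hy hwy
  obtain ⟨z, hzL, hzw⟩ : ∃ z ∈ L, z ∉ line F K w := by
    by_contra h
    push Not at h
    exact hne w (Submodule.eq_of_le_of_finrank_le h
      (by rw [finrank_map_coe, finrank_line hv0, finrank_line hw0]))
  have hpz : S.projPair w y z ≠ 0 := fun h => hzw ⟨S.B z y, by
    rw [projPair_apply, hex z hzL, zero_smul, sub_zero, sub_eq_zero] at h
    exact h.symm⟩
  obtain ⟨t, ht, hfix, hft⟩ := (hM.mover hr P (wide_pair hw hy hwy hb) hpz).exists_pairing P
    (hM.f_image hg hv hzL hzL)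
  have htw : (t : Module.End F V) w = w := hfix w (projPair_left hw hwy)
  refine ⟨_, ?_, hM.pull_pairing hg ht hv hwL hw0 htw hzL hft⟩
  refine Submodule.finrank_mono (le_inf (fun u hu => ?_) inf_le_left)
  obtain ⟨k, hk⟩ := mem_line.1 hu.2
  exact ⟨u, hu.1, hfix u (by rw [← hk, map_smul, projPair_left hw hwy, smul_zero])⟩

theorem Over.bigger (hM : S.Over M) (hr : finrank F K = 3 ∨ finrank F K = 5) (hb : S.Big) {d : ℕ}
    (h : S.HasCfg M d) (hd : d + 2 ≤ finrank F K) : ∃ d', d < d' ∧ S.HasCfg M d' := by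
  have hr' : (finrank F K).Prime := by rcases hr with h | h <;> rw [h] <;> norm_num
  obtain ⟨g, hg, v, w, x, hv, hw, hwL, hxL, hxw, rfl⟩ := h
  set L := (line F K v).map (g : Module.End F V) with hL
  have hw0 : w ≠ 0 := by rintro rfl; simp at hxw
  have hv0 : v ≠ 0 := by
    rintro rfl
    obtain ⟨a, ha, haw⟩ := hwL
    obtain ⟨k, rfl⟩ := mem_line.1 ha
    simp at haw
    exact hw0 haw.symm
  have hLr : finrank F L = finrank F K := by rw [hL, finrank_map_coe, finrank_line hv0]
  have hline : ∀ u, L ≠ line F K u := fun u hu => by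
    have h1 : w ∈ line F K u := hu ▸ hwL
    have h2 : x ∈ line F K u := hu ▸ hxL
    rw [← line_eq_of_mem h1 hw0] at h2
    exact hxw (B_line hw h2 (self_mem_line w))
  have hwx : S.B w x ≠ 0 := fun h => hxw (S.symm_zero h)
  obtain ⟨k, hk⟩ := S.exists_iso_add hw hwx
  set y := (S.κ (S.B w x))⁻¹ • (x + k • w) with hydef
  have hy : S.B y y = 0 := by rw [hydef, S.B_smul_left, S.B_smul_right, hk, mul_zero, mul_zero]
  have hwy : S.B w y = 1 := by
    rw [hydef, S.B_smul_right, S.B_add_right, S.B_smul_right, hw, map_inv₀, κκ, mul_zero, add_zero,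
      inv_mul_cancel₀ hwx]
  have P := projPair_proj hw hy hwy
  set pr := S.projPair w y with hpr
  have hprw : pr w = 0 := projPair_left hw hwy
  have hyw : S.B y w = 1 := by rw [← κB, hwy, map_one]
  have hpry : pr y = 0 := by simp [hpr, projPair_apply, hy, hyw]
  have hprx : pr x = 0 := by
    have hx : x = S.κ (S.B w x) • y - k • w := by
      rw [hydef, smul_inv_smul₀ (by simpa using hwx), add_sub_cancel_right]
    rw [hx]
    simp [hpry, hprw]
  have hxw' : x ∉ line F K w := fun h => hxw (B_line hw h (self_mem_line w))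
  obtain ⟨t, ht, htfix, z₁, hz₁, hz₁w, htz, hmove⟩ : ∃ t ∈ M, (∀ k : K, (t : Module.End F V) (k • w) = k • w) ∧
      ∃ z₁ ∈ L, z₁ ∉ line F K w ∧ (t : Module.End F V) z₁ ∈ L ∧ L.map (t : Module.End F V) ≠ L := by
    by_cases hout : ∃ z ∈ L, pr z ≠ 0
    · obtain ⟨z, hz, hpz⟩ := hout
      obtain ⟨t, ht, hfix, hmove⟩ :=
        (hM.mover hr' P (wide_pair hw hy hwy hb) hpz).exists_move P hz hLr hline
      exact ⟨t, ht, fun k => hfix _ (by rw [map_smul, hprw, smul_zero]), x, hxL, hxw',
        (hfix x hprx).symm ▸ hxL, hmove⟩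
    push Not at hout
    have hcoord : ∀ z ∈ L, z = S.B z y • w + S.B z w • y := fun z hz => by
      have := hout z hz
      rw [hpr, projPair_apply, sub_sub, sub_eq_zero] at this
      exact this
    set J : Submodule F K := L.comap (smulMap F K w) with hJ
    set ψ := (((S.Bl w).restrictScalars F).domRestrict L) with hψ
    set Q : Submodule F K := LinearMap.range ψ with hQ
    have hker : (LinearMap.ker ψ).map L.subtype = L ⊓ line F K w := by
      ext z
      constructor
      · rintro ⟨⟨z, hz⟩, h0, rfl⟩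
        have h0' : S.B z w = 0 := h0
        refine ⟨hz, S.B z y, ?_⟩
        have h2 := hcoord z hz
        rw [h0', zero_smul, add_zero] at h2
        exact h2.symm
      · rintro ⟨hz, hzw⟩
        exact ⟨⟨z, hz⟩, B_line hw hzw (self_mem_line w), rfl⟩
    have hJd : finrank F J = finrank F ↥(L ⊓ line F K w) := by
      rw [(Submodule.equivMapOfInjective _ (smulMap_injective hw0) J).finrank_eq, hJ, Submodule.map_comap_eq,
        inf_comm]
      rfl
    have hsum : finrank F J + finrank F Q = finrank F K := by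
      rw [hJd, ← hker, ← (Submodule.equivMapOfInjective _ L.injective_subtype (LinearMap.ker ψ)).finrank_eq,
        add_comm, hQ, LinearMap.finrank_range_add_finrank_ker, hLr]
    have hperp : ∀ j ∈ J, ∀ p ∈ Q, (tr (p * S.κ j) : F) = 0 := by
      rintro j hj _ ⟨⟨z, hz⟩, rfl⟩
      have := hM.f_image hg hv hz (show j • w ∈ L from hj)
      rw [f, S.B_smul_right] at this
      show (tr (S.B z w * S.κ j) : F) = 0
      rwa [mul_comm]
    have hJne : J ≠ ⊥ := fun h => by
      have : (1 : K) ∈ J := show (1 : K) • w ∈ L by rwa [one_smul]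
      rw [h, Submodule.mem_bot] at this
      exact one_ne_zero this
    obtain ⟨a, ha, p, ⟨⟨z₁, hz₁⟩, rfl⟩, hp0, hap, p', ⟨⟨z₂, hz₂⟩, rfl⟩, hap'⟩ :=
      exists_shift (Unitary.two_le_q S.hF) hr hsum hperp hJne (by rw [hJd]; exact hd)
    obtain ⟨t, ht, htx⟩ := hM.exists_trans hw ha
    refine ⟨t, ht, fun k => by rw [htx, S.B_smul_left, hw, mul_zero, mul_zero, zero_smul, add_zero], z₁, hz₁,
      fun h => hp0 (B_line hw h (self_mem_line w)), ?_, fun h => hap' ?_⟩
    · rw [htx]
      exact L.add_mem hz₁ hap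
    · have := h ▸ Submodule.mem_map_of_mem (f := (t : Module.End F V)) hz₂
      rw [htx] at this
      show (a * S.B z₂ w) • w ∈ L
      simpa using L.sub_mem this hz₂
  obtain ⟨hmem, hiso, hmemL, hlinev, hdim⟩ := hM.pull hg ht hv hwL hw0 (by simpa using htfix 1)
  have hne' : ∀ u, (line F K v).map ((g⁻¹ * t * g : (Module.End F V)ˣ) : Module.End F V) ≠ line F K u := by
    intro u hu
    have h1 : line F K v = line F K u := by
      rw [← hlinev]
      exact line_eq_of_mem (hu ▸ hmemL) fun h => hw0 (injective_coe g⁻¹ (by rw [h, map_zero]))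
    apply hmove
    rw [← h1, Units.val_mul, Units.val_mul, Module.End.mul_eq_comp, Module.End.mul_eq_comp, Submodule.map_comp,
      Submodule.map_comp] at hu
    conv_rhs => rw [hL, ← hu]
    rw [map_map_inv]
  obtain ⟨d', hd', hcfg⟩ := hM.step hr' hb hmem hv hiso hmemL
    (fun h => hw0 (injective_coe g⁻¹ (by rw [h, map_zero]))) hne'
  refine ⟨d', lt_of_lt_of_le ?_ hd', hcfg⟩
  rw [hdim]
  refine Submodule.finrank_lt_finrank_of_lt (lt_of_le_of_ne (le_inf (fun u hu => ?_) inf_le_left) fun h => ?_)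
  · obtain ⟨k, hk⟩ := mem_line.1 hu.2
    exact ⟨u, hu.1, by rw [← hk, htfix]⟩
  · have h1 : (t : Module.End F V) z₁ ∈ L ⊓ line F K w := h.symm ▸ ⟨Submodule.mem_map_of_mem hz₁, htz⟩
    obtain ⟨k, hk⟩ := mem_line.1 h1.2
    rw [← htfix k] at hk
    exact hz₁w ⟨k, injective_coe t hk⟩

/-- A hyperplane configuration. -/
theorem Over.exists_hyperplane (hM : S.Over M) (hr : finrank F K = 3 ∨ finrank F K = 5) (hb : S.Big)
    (hdim : ∀ v : V, ∃ z, z ∉ line F K v) {g : (Module.End F V)ˣ} (hg : g ∈ M) {k : K}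
    (hne : ∀ k' : K, ∃ x, (g : Module.End F V) (k • ((g⁻¹ : (Module.End F V)ˣ) : Module.End F V) x) ≠ k' • x) :
    S.HasCfg M (finrank F K - 1) := by
  have hr' : (finrank F K).Prime := by rcases hr with h | h <;> rw [h] <;> norm_num
  obtain ⟨v, hv0, hv, hline⟩ : ∃ v, v ≠ 0 ∧ S.B v v = 0 ∧
      ∀ u, (line F K v).map (g : Module.End F V) ≠ line F K u := by
    by_contra hc
    push Not at hc
    obtain ⟨k', hk'⟩ := semilinear_of_lines hdim (g := g) hc k
    obtain ⟨x, hx⟩ := hne k'
    exact hx (hk' x)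
  set w := (g : Module.End F V) v with hwdef
  have hw0 : w ≠ 0 := fun h => hv0 (injective_coe g (by rw [← hwdef, h, map_zero]))
  have hwL : w ∈ (line F K v).map (g : Module.End F V) := Submodule.mem_map_of_mem (self_mem_line v)
  obtain ⟨d, hd⟩ : ∃ d, S.HasCfg M d := by
    by_cases hw : S.B w w = 0
    · obtain ⟨d, -, hd⟩ := hM.step hr' hb hg hv hw hwL hw0 hline
      exact ⟨d, hd⟩
    set L := (line F K v).map (g : Module.End F V) with hL
    have hLr : finrank F L = finrank F K := by rw [hL, finrank_map_coe, finrank_line hv0]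
    obtain ⟨z, hzL, hzw⟩ : ∃ z ∈ L, z ∉ line F K w := by
      by_contra h
      push Not at h
      exact hline w (Submodule.eq_of_le_of_finrank_le h (by rw [hLr, finrank_line hw0]))
    have P := projOne_proj hw
    have hpz : S.projOne w z ≠ 0 := fun h => hzw ⟨_, (sub_eq_zero.1 h).symm⟩
    obtain ⟨t, ht, hfix, hmove⟩ := (hM.mover hr' P (wide_one hw hb) hpz).exists_move P hzL hLr hline
    have htw : (t : Module.End F V) w = w := hfix w (projOne_self hw)
    obtain ⟨hmem, hiso, hmemL, hlinev, -⟩ := hM.pull hg ht hv hwL hw0 htw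
    obtain ⟨d, -, hd⟩ := hM.step hr' hb hmem hv hiso hmemL
      (fun h => hw0 (injective_coe g⁻¹ (by rw [h, map_zero]))) fun u hu => hmove (by
      have h1 : line F K v = line F K u := by
        rw [← hlinev]
        exact line_eq_of_mem (hu ▸ hmemL) fun h => hw0 (injective_coe g⁻¹ (by rw [h, map_zero]))
      rw [← h1, Units.val_mul, Units.val_mul, Module.End.mul_eq_comp, Module.End.mul_eq_comp, Submodule.map_comp,
        Submodule.map_comp] at hu
      conv_rhs => rw [hL, ← hu]
      rw [map_map_inv])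
    exact ⟨d, hd⟩
  have hlt : ∀ d, S.HasCfg M d → d < finrank F K := by
    rintro d ⟨g, -, v, w, x, hv, hw, hwL, hxL, hxw, rfl⟩
    have hw0 : w ≠ 0 := by rintro rfl; simp at hxw
    refine lt_of_lt_of_le (Submodule.finrank_lt_finrank_of_lt (lt_of_le_of_ne inf_le_left fun h =>
      hxw (B_line hw (h.symm ▸ hxL : x ∈ _ ⊓ line F K w).2 (self_mem_line w)))) ?_
    rw [finrank_map_coe]
    exact LinearMap.finrank_range_le _
  induction hn : finrank F K - d using Nat.strong_induction_on generalizing d with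
  | _ n ih =>
    have := hlt d hd
    rcases Nat.lt_or_ge (d + 1) (finrank F K) with h2 | h2
    · obtain ⟨d', hd', hcfg⟩ := hM.bigger hr hb hd (by omega)
      exact ih _ (by omega) d' hcfg rfl
    · rwa [show finrank F K - 1 = d by omega]

end Cfsg.Agent.H58.SUExt.UForm
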