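import Cfsg.Agent.H58.SUExt.Pair

/-!
From one root group at an isotropic vector to all root groups of the trace form.
-/

set_option autoImplicit false
set_option linter.unusedSectionVars false
set_option linter.style.haveILetI false
set_option linter.unusedVariables false

namespace Cfsg.Agent.H58.SUExt.UForm

open Module Cfsg.Agent.H98.ExtField

variable {F : Type*} [Field F] [Fintype F] {K : Type*} [Field K] [Fintype K] [Algebra F K]
  {V : Type*} [AddCommGroup V] [Module F V] [Module K V] [IsScalarTower F K V] [FiniteDimensional F V]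
  {S : UForm F K V} {M : Subgroup (Module.End F V)ˣ}

theorem Root.smul {v : V} (h : S.Root M v) (c : F) : S.Root M (c • v) := by
  intro l hl
  have h' := h (l * (c * S.σ c)) (by rw [map_mul, map_mul, hl, σσ]; ring)
  convert h' using 1
  refine LinearMap.ext fun x => ?_
  simp only [LinearMap.smulRight_apply, LinearMap.smul_apply, fL_apply, f_smul_right, smul_eq_mul, smul_smul]
  ring_nf

theorem Root.conj (hM : S.Over M) {v : V} (h : S.Root M v) {g : (Module.End F V)ˣ} (hg : g ∈ M) :
    S.Root M ((g : Module.End F V) v) := by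
  intro l hl
  have h' := (h l hl).conj hg
  rw [conj_smulRight] at h'
  convert h' using 2
  refine LinearMap.ext fun x => ?_
  simp only [LinearMap.smul_apply, LinearMap.comp_apply, fL_apply]
  conv_lhs => rw [← apply_inv g x, hM.iso g hg]

/-- A sum of two nonorthogonal isotropic vectors with root groups. -/
theorem Root.add (hM : S.Over M) {v u : V} (hv : S.Root M v) (hu : S.Root M u) (hvv : S.f v v = 0)
    (huu : S.f u u = 0) (hs : S.f (v + u) (v + u) = 0) (hvu : S.f v u ≠ 0) : S.Root M (v + u) := by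
  have hskew : S.σ (S.f v u) = -S.f v u := by
    rw [f_add_left, f_add_right, f_add_right, hvv, huu, zero_add, add_zero, ← f_herm S v u] at hs
    exact eq_neg_of_add_eq_zero_right hs
  obtain ⟨-, t, ht, hta⟩ := hu (S.f v u)⁻¹ (by rw [map_inv₀, hskew, inv_neg])
  have htv : (t : Module.End F V) v = v + u := by
    simp [hta, inv_mul_cancel₀ hvu]
  exact htv ▸ hv.conj hM ht

theorem exists_skew_tr (S : UForm F K V) : ∃ a : K, S.Skew a ∧ (tr a : F) ≠ 0 := by
  by_contra hc
  push Not at hc
  obtain ⟨k, hk⟩ := exists_tr_ne (F := F) (K := K)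
  have hmem : k ∈ Submodule.span F {a : K | S.Skew a} := S.span_skew ▸ Submodule.mem_top
  apply hk
  clear hk
  induction hmem using Submodule.span_induction with
  | mem a ha => exact hc a ha
  | zero => simp
  | add a b _ _ ha hb => rw [map_add, ha, hb, add_zero]
  | smul c a _ ha => rw [map_smul, ha, smul_zero]

theorem Over.move_to (hM : S.Over M) {a b : V} (ha : S.B a a = 0) (hb : S.B b b = 0)
    (hsk : S.Skew (S.B a b)) (hne : S.B a b ≠ 0) : ∃ t ∈ M, (t : Module.End F V) a = b := by
  obtain ⟨t, ht, htx⟩ := hM.exists_trans (c := b - a) (a := (S.B a b)⁻¹) (by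
    simp only [S.B_sub_left, S.B_sub_right, ha, hb, ← S.κB a b, show S.κ (S.B a b) = -S.B a b from hsk]
    ring) (show S.κ (S.B a b)⁻¹ = -(S.B a b)⁻¹ by rw [map_inv₀, show S.κ (S.B a b) = -S.B a b from hsk, inv_neg])
  exact ⟨t, ht, by rw [htx, S.B_sub_right, ha, sub_zero, inv_mul_cancel₀ hne, one_smul, add_sub_cancel]⟩

theorem Over.exists_torus (hM : S.Over M) {w y : V} (hw : S.B w w = 0) (hy : S.B y y = 0) (hwy : S.B w y = 1)
    {s : K} (hs : s ≠ 0)
    (hcond : Algebra.norm F s = Algebra.norm F (S.κ s) ∨ ∃ u, S.B u u ≠ 0 ∧ S.B u w = 0 ∧ S.B u y = 0) :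
    ∃ t ∈ M, (∀ (k : K) (x : V), (t : Module.End F V) (k • x) = k • (t : Module.End F V) x) ∧
      (t : Module.End F V) w = s • w ∧ (t : Module.End F V) y = (S.κ s)⁻¹ • y := by
  have hyw : S.B y w = 1 := by rw [← κB, hwy, map_one]
  have hκs : S.κ s ≠ 0 := by simpa using hs
  obtain ⟨u, l, φ, hφ1, hl, hnorm, hφw, hφy, hφu, hφu'⟩ : ∃ (u : V) (l : K) (φ : V →ₗ[K] K),
      (φ u = 1 ∨ l = 1) ∧ (∀ x z, (l - 1) * φ x * S.B u z + S.κ ((l - 1) * φ z) * S.B x u +
        (l - 1) * φ x * S.κ ((l - 1) * φ z) * S.B u u = 0) ∧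
      Algebra.norm F s * Algebra.norm F (S.κ s)⁻¹ * Algebra.norm F l = 1 ∧
      φ w = 0 ∧ φ y = 0 ∧ S.B u w = 0 ∧ S.B u y = 0 := by
    have hinv : ∀ z : K, z ≠ 0 → Algebra.norm F z⁻¹ = (Algebra.norm F z)⁻¹ := fun z hz =>
      eq_inv_of_mul_eq_one_left (by rw [← map_mul, inv_mul_cancel₀ hz, map_one])
    have hnn := hinv _ hκs
    rcases hcond with h | ⟨u, huu, huw, huy⟩
    · refine ⟨0, 1, 0, Or.inr rfl, by simp, ?_, rfl, rfl, by simp, by simp⟩
      rw [map_one, mul_one, hnn, h, mul_inv_cancel₀ (by simpa using hκs)]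
    · refine ⟨u, S.κ s / s, (S.B u u)⁻¹ • S.Bl u, Or.inl (by simp [huu]), fun x z => ?_, ?_,
        by simp [S.symm_zero huw], by simp [S.symm_zero huy], huw, huy⟩
      · simp only [LinearMap.smul_apply, Bl_apply, smul_eq_mul, map_mul, map_sub, map_div₀, κκ, map_one, map_inv₀,
          κB]
        field_simp
        ring
      · rw [hnn, div_eq_mul_inv, map_mul, hinv _ hs]
        have h1 : Algebra.norm F (S.κ s) ≠ 0 := by simpa using hκs
        have h2 : Algebra.norm F s ≠ 0 := by simpa using hs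
        field_simp
  set T₁ : V →ₗ[K] V := LinearMap.id + ((s - 1) • S.Bl y).smulRight w
  set T₂ : V →ₗ[K] V := LinearMap.id + (((S.κ s)⁻¹ - 1) • S.Bl w).smulRight y
  set T₃ : V →ₗ[K] V := LinearMap.id + ((l - 1) • φ).smulRight u
  set T := T₁ ∘ₗ T₂ ∘ₗ T₃ with hT
  have hTx : ∀ x, T x = x + ((s - 1) * S.B x y) • w + (((S.κ s)⁻¹ - 1) * S.B x w) • y + ((l - 1) * φ x) • u := by
    intro x
    simp only [hT, T₁, T₂, T₃, LinearMap.comp_apply, LinearMap.add_apply, LinearMap.id_apply,
      LinearMap.smulRight_apply, LinearMap.smul_apply, Bl_apply, smul_eq_mul, S.B_add_left, S.B_smul_left,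
      hy, hφu, hφu', mul_zero, add_zero]
    module
  have hdet : LinearMap.det (T.restrictScalars F) = 1 := by
    rw [← hnorm, show T.restrictScalars F = T₁.restrictScalars F * (T₂.restrictScalars F * T₃.restrictScalars F)
      from rfl, map_mul, map_mul, det_add_smulRight _ w (by simpa using hwy), det_add_smulRight _ y (by simpa using hyw),
      mul_assoc]
    congr 2
    rcases hφ1 with h | h
    · exact det_add_smulRight _ u h l
    · rw [show T₃ = LinearMap.id by simp [T₃, h]]
      simp [h]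
  have hu' : IsUnit (T.restrictScalars F) := LinearMap.isUnit_iff_range_eq_top _ |>.2 (by
    refine LinearMap.range_eq_top.2 (LinearMap.surjective_of_injective ?_)
    exact (LinearMap.equivOfDetNeZero (T.restrictScalars F) (by rw [hdet]; exact one_ne_zero)).injective)
  refine ⟨hu'.unit, hM.contains _ ⟨fun k x => T.map_smul k x, fun x z => ?_⟩ hdet, fun k x => T.map_smul k x,
    ?_, ?_⟩
  · show S.B (T x) (T z) = _
    simp only [hTx, S.B_add_left, S.B_add_right, S.B_smul_left, S.B_smul_right, hw, hy, hwy, hyw, hφu, hφu',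
      S.symm_zero hφu, S.symm_zero hφu', map_mul, map_sub, map_inv₀, κκ, map_one, κB, mul_zero, mul_one, add_zero]
    have := hl x z
    simp only [map_mul, map_sub, map_one] at this
    field_simp
    linear_combination (s * S.κ s) * this
  · show T w = _
    rw [hTx, hw, hwy, hφw]
    module
  · show T y = _
    rw [hTx, hy, hyw, hφy]
    module

/-- All scalings, in dimension at least three. -/
theorem Over.root_line (hM : S.Over M) (hm : 3 ≤ finrank K V) {v : V} (hv : S.B v v = 0) (hv0 : v ≠ 0)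
    (h : S.Root M v) (k : K) : S.Root M (k • v) := by
  rcases eq_or_ne k 0 with rfl | hk
  · rw [zero_smul]
    simpa using h.smul 0
  obtain ⟨y, hy, hvy⟩ := S.exists_partner hv hv0
  have P := projPair_proj hv hy hvy
  obtain ⟨u, hu⟩ : ∃ u, S.B u u ≠ 0 ∧ S.B u v = 0 ∧ S.B u y = 0 := by
    classical
    haveI : Module.Finite K V := Module.Finite.of_restrictScalars_finite F K V
    obtain ⟨x, hx⟩ : ∃ x, x ∉ Submodule.span K {v, y} := by
      by_contra hc
      push Not at hc
      have h1 : finrank K V ≤ 2 := by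
        rw [← finrank_top K V, show (⊤ : Submodule K V) = Submodule.span K ↑({v, y} : Finset V) by
          rw [Finset.coe_pair]; exact (eq_top_iff.2 fun z _ => hc z).symm]
        exact (finrank_span_finset_le_card _).trans Finset.card_le_two
      omega
    set pr := S.projPair v y with hpr
    set p := pr x with hp
    have hp0 : p ≠ 0 := fun h0 => hx (Submodule.mem_span_pair.2 ⟨S.B x y, S.B x v, by
      rw [hp, hpr, projPair_apply, sub_sub, sub_eq_zero] at h0
      exact h0.symm⟩)
    have hperp : ∀ z, pr z = z → S.B z v = 0 ∧ S.B z y = 0 := fun z hz => by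
      have hyv : S.B y v = 1 := by rw [← κB, hvy, map_one]
      constructor
      · rw [← hz, P.sa, hpr, projPair_left hv hvy, B_zero_right]
      · rw [← hz, P.sa, show pr y = 0 by simp [hpr, projPair_apply, hy, hyv], B_zero_right]
    by_cases hpp : S.B p p = 0
    swap
    · exact ⟨p, hpp, hperp p (P.idem x)⟩
    obtain ⟨z, hz⟩ := S.exists_partner_left hp0
    have hpz : S.B p (pr z) ≠ 0 := by rwa [← P.sa, hp, P.idem]
    obtain ⟨a, ha, hatr⟩ := S.exists_skew_tr
    obtain ⟨j, hj⟩ := S.exists_half (n := 1 - S.B (pr z) (pr z)) (by rw [map_sub, map_one, κB])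
    refine ⟨pr z + (j / S.B p (pr z)) • p, ?_, hperp _ (by rw [map_add, map_smul, P.idem, hp, P.idem])⟩
    have hzp : S.B (pr z) p ≠ 0 := fun h0 => hpz (S.symm_zero h0)
    simp only [S.B_add_left, S.B_add_right, S.B_smul_left, S.B_smul_right, hpp, map_div₀, κB,
      div_mul_cancel₀ _ hpz, div_mul_cancel₀ _ hzp]
    intro h1
    exact one_ne_zero (show (1 : K) = 0 by linear_combination h1 - hj)
  obtain ⟨t, ht, -, htv, -⟩ := hM.exists_torus hv hy hvy hk (Or.inr ⟨u, hu⟩)
  exact htv ▸ h.conj hM ht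

/-- All root groups at isotropic vectors, in dimension at least three. -/
theorem Over.root_iso (hM : S.Over M) (hm : 3 ≤ finrank K V) {v : V} (hv : S.B v v = 0) (hv0 : v ≠ 0)
    (h : S.Root M v) {a : V} (ha : S.B a a = 0) : S.Root M a := by
  have key : ∀ a b : V, S.B a a = 0 → S.B b b = 0 → S.B a b ≠ 0 → (∀ k : K, S.Root M (k • a)) →
      ∀ k : K, S.Root M (k • b) := by
    intro a b ha hb hab hra
    have hb0 : b ≠ 0 := by rintro rfl; simp at hab
    obtain ⟨d, hd, hdtr⟩ := S.exists_skew_tr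
    have hd0 : d ≠ 0 := by rintro rfl; simp at hdtr
    have hne : S.κ (S.B a b) ≠ 0 := by simpa using hab
    obtain ⟨t, ht, hta⟩ := hM.move_to ha (b := (S.κ d / S.κ (S.B a b)) • b)
      (by rw [S.B_smul_left, S.B_smul_right, hb, mul_zero, mul_zero])
      (by rw [S.B_smul_right, map_div₀, κκ, κκ, div_mul_cancel₀ _ hab]; exact hd)
      (by rw [S.B_smul_right, map_div₀, κκ, κκ, div_mul_cancel₀ _ hab]; exact hd0)
    have hr := hta ▸ (one_smul K a ▸ hra 1).conj hM ht
    have hc : S.κ d / S.κ (S.B a b) ≠ 0 := div_ne_zero (by simpa using hd0) hne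
    intro k
    have := hM.root_line hm (v := (S.κ d / S.κ (S.B a b)) • b)
      (by rw [S.B_smul_left, S.B_smul_right, hb, mul_zero, mul_zero]) (smul_ne_zero hc hb0) hr
      (k / (S.κ d / S.κ (S.B a b)))
    rwa [smul_smul, div_mul_cancel₀ _ hc] at this
  rcases eq_or_ne a 0 with rfl | ha0
  · simpa using h.smul 0
  have hall := hM.root_line hm hv hv0 h
  rw [← one_smul K a]
  by_cases hva : S.B v a = 0
  swap
  · exact key v a hv ha hva hall 1
  obtain ⟨z, hz, hvz, haz⟩ := S.exists_iso_both hv hv0 ha0 hva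
  exact key z a hz ha (fun h => haz (S.symm_zero h)) (key v z hv hz hvz hall) 1

set_option maxHeartbeats 800000 in
/-- In dimension two, with a good scalar. -/
theorem Over.root_iso_two (hM : S.Over M) (hr : (finrank F K).Prime) (hm : finrank K V = 2) {l : K}
    (hl : S.Good l) {a₀ : V} (ha₀ : S.B a₀ a₀ = 0) (ha00 : a₀ ≠ 0) (h : S.Root M a₀) {a' : V}
    (ha' : S.B a' a' = 0) : S.Root M a' := by
  haveI : Module.Finite K V := Module.Finite.of_restrictScalars_finite F K V
  rcases eq_or_ne a' 0 with rfl | ha'0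
  · simpa using h.smul 0
  obtain ⟨b₀, hb₀, hab⟩ := S.exists_partner ha₀ ha00
  have hba : S.B b₀ a₀ = 1 := by rw [← κB, hab, map_one]
  obtain ⟨d, hd0, hd⟩ := S.exists_skewF
  set D := algebraMap F K d with hD
  have hDs : S.κ D = -D := by rw [hD, κ_algebraMap, hd, map_neg]
  have hD0 : D ≠ 0 := by simpa [hD] using hd0
  have hiso : ∀ (k : K) (v : V), S.B v v = 0 → S.B (k • v) (k • v) = 0 := fun k v hv => by
    rw [S.B_smul_left, S.B_smul_right, hv, mul_zero, mul_zero]
  have hrb : S.Root M (D • b₀) := by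
    obtain ⟨t, ht, hta⟩ := hM.move_to ha₀ (hiso D b₀ hb₀)
      (show S.κ _ = -_ by rw [S.B_smul_right, hab, mul_one, κκ, hDs, neg_neg])
      (by rw [S.B_smul_right, hab, mul_one]; simpa using hD0)
    exact hta ▸ h.conj hM ht
  obtain ⟨c, hc, hctr⟩ : ∃ c : K, S.κ c = c ∧ (tr (l * c) : F) ≠ 0 := by
    by_contra hcon
    push Not at hcon
    have hl0 : l ≠ 0 := fun h0 => by simpa [h0] using hl.unit
    obtain ⟨e, he⟩ := S.exists_e
    refine hl0 (eq_zero_of_tr (F := F) fun k => ?_)
    obtain ⟨c₁, c₂, h₁, h₂, rfl⟩ := S.exists_decomp he k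
    rw [mul_comm, mul_add, map_add, mul_smul_comm, map_smul, hcon _ h₁, hcon _ h₂, smul_zero, add_zero]
  have hc0 : c ≠ 0 := fun h0 => hctr (by rw [h0, mul_zero, map_zero])
  have hra : S.Root M ((l * c) • a₀) := by
    obtain ⟨t, ht, hta⟩ := hM.move_to (hiso D b₀ hb₀) (hiso c a₀ ha₀)
      (show S.κ _ = -_ by rw [S.B_smul_left, S.B_smul_right, hba, map_mul, map_mul, κκ, hDs, hc, map_one]; ring)
      (by rw [S.B_smul_left, S.B_smul_right, hba, hc, mul_one]; exact mul_ne_zero hD0 hc0)
    have h1 := hta ▸ hrb.conj hM ht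
    set T : Module.End F V := (l • LinearMap.id : V →ₗ[K] V).restrictScalars F with hT
    have hdet : LinearMap.det T = 1 := by
      rw [hT, LinearMap.det_restrictScalars, LinearMap.det_smul, LinearMap.det_id, mul_one, map_pow, hl.norm,
        one_pow]
    have hu' : IsUnit T := LinearMap.isUnit_iff_range_eq_top _ |>.2 (by
      refine LinearMap.range_eq_top.2 (LinearMap.surjective_of_injective ?_)
      exact (LinearMap.equivOfDetNeZero T (by rw [hdet]; exact one_ne_zero)).injective)
    have ht' : hu'.unit ∈ M := hM.contains _ ⟨fun k x => show l • k • x = k • l • x from smul_comm l k x,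
      fun x z => by
        show S.B (l • x) (l • z) = _
        rw [S.B_smul_left, S.B_smul_right, ← mul_assoc, hl.unit, one_mul]⟩ hdet
    have e : (hu'.unit : Module.End F V) (c • a₀) = l • c • a₀ := by rw [IsUnit.unit_spec]; rfl
    have h2 := h1.conj hM ht'
    rw [e, ← mul_smul] at h2
    exact h2
  -- an anisotropic vector with a root group
  set v' := (tr (l * c) : F)⁻¹ • ((l * c) • a₀) with hv'
  set u := D • b₀ with hu
  have hv'v' : S.B v' v' = 0 := by rw [hv', ← algebraMap_smul K]; exact hiso _ _ (hiso _ _ ha₀)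
  set p := S.B v' u with hp
  have hp' : p = (algebraMap F K (tr (l * c) : F)⁻¹ * (l * c)) * (-D) := by
    rw [hp, hv', ← algebraMap_smul K (tr (l * c) : F)⁻¹, smul_smul, S.B_smul_left, hu, S.B_smul_right, hab, hDs,
      mul_one]
  have htrp : (tr p : F) = -d := by
    rw [hp', hD, mul_neg, map_neg, mul_comm, ← mul_assoc, ← map_mul, ← Algebra.smul_def, map_smul, smul_eq_mul,
      mul_assoc, inv_mul_cancel₀ hctr, mul_one]
  set n := p + S.κ p with hn
  have hn0 : n ≠ 0 := by
    intro h0
    rw [hn, hp', map_mul S.κ, map_mul S.κ, map_mul S.κ, κ_algebraMap, map_neg, hDs, hc, neg_neg] at h0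
    set z : F := (tr (l * c) : F)⁻¹ with hz
    have hz0 : z ≠ 0 := inv_ne_zero hctr
    have h2 : algebraMap F K (S.σ z) * S.κ l = algebraMap F K z * l := by
      have h1 : (algebraMap F K (S.σ z) * S.κ l - algebraMap F K z * l) * (c * D) = 0 := by linear_combination h0
      exact sub_eq_zero.1 ((mul_eq_zero.1 h1).resolve_right (mul_ne_zero hc0 hD0))
    have hsq : l ^ 2 = algebraMap F K (S.σ z / z) := by
      rw [map_div₀, eq_div_iff (by simpa using hz0)]
      linear_combination (-l) * h2 + (algebraMap F K (S.σ z)) * hl.unit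
    obtain ⟨a, ha⟩ : l ∈ (algebraMap F K).range := by
      rw [← minpoly.natDegree_eq_one_iff]
      have hint : IsIntegral F l := IsIntegral.of_finite F l
      have hle : (minpoly F l).natDegree ≤ 2 := by
        refine (Polynomial.natDegree_le_of_dvd (minpoly.dvd F l
          (p := Polynomial.X ^ 2 - Polynomial.C (S.σ z / z)) ?_)
          (Polynomial.X_pow_sub_C_ne_zero two_pos _)).trans ?_
        · simp [hsq]
        · rw [Polynomial.natDegree_X_pow_sub_C]
      have hdvd := minpoly.degree_dvd hint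
      rcases (Nat.dvd_prime hr).1 hdvd with h1 | h1
      · exact h1
      · obtain ⟨j, hj⟩ := S.hr
        have := minpoly.natDegree_pos hint
        omega
    exact hl.notMem a ha
  set x₀ := v' + u with hx₀
  have hxx : S.B x₀ x₀ = n := by
    simp only [hx₀, S.B_add_left, S.B_add_right, hv'v', hu, hiso D b₀ hb₀, hn, hp, κB]
    ring
  have hfx : S.f x₀ x₀ = 0 := by
    rw [f, hxx, hn, map_add, ← σ_tr, htrp, map_neg, hd]
    ring
  have hrx : S.Root M x₀ := (hra.smul _).add hM hrb (by rw [f, hv'v', map_zero]) (by rw [f, hiso D b₀ hb₀, map_zero])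
    hfx (by rw [f, show S.B v' (D • b₀) = p from rfl, htrp, neg_ne_zero]; exact hd0)
  -- coordinates for a pair at the target
  obtain ⟨b', hb', hab'⟩ := S.exists_partner ha' ha'0
  have hba' : S.B b' a' = 1 := by rw [← κB, hab', map_one]
  have hexp : ∀ x, x = S.B x b' • a' + S.B x a' • b' := by
    intro x
    have hli : LinearIndependent K ![a', b'] := by
      rw [LinearIndependent.pair_iff' ha'0]
      intro k hk
      rw [← hk, S.B_smul_right, ha', mul_zero] at hab'
      exact zero_ne_one hab'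
    have hspan := hli.span_eq_top_of_card_eq_finrank (by rw [Fintype.card_fin, hm])
    have hx : x ∈ Submodule.span K {a', b'} := by
      have : x ∈ Submodule.span K (Set.range ![a', b']) := hspan ▸ Submodule.mem_top
      simpa [Matrix.range_cons, Set.pair_comm] using this
    obtain ⟨α, β, rfl⟩ := Submodule.mem_span_pair.1 hx
    simp [S.B_add_left, S.B_smul_left, ha', hb', hab', hba']
  have hnorm : ∀ x, S.B x x = S.B x b' * S.κ (S.B x a') + S.κ (S.B x b' * S.κ (S.B x a')) := by
    intro x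
    conv_lhs => rw [hexp x]
    simp only [S.B_add_left, S.B_add_right, S.B_smul_left, S.B_smul_right, ha', hb', hab', hba', map_mul, κκ]
    ring
  have hmk : ∀ α β : K, S.B (α • a' + β • b') b' = α ∧ S.B (α • a' + β • b') a' = β := fun α β => by
    simp [S.B_add_left, S.B_smul_left, ha', hb', hab', hba']
  have stepA : ∀ x x', S.B x x = n → S.B x' x' = n → S.B x a' = S.B x' a' → S.Root M x → S.Root M x' := by
    intro x x' hx hx' hβ hr
    have hβ0 : S.B x a' ≠ 0 := fun h0 => hn0 (by rw [← hx, hnorm, h0]; simp)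
    obtain ⟨t, ht, htx⟩ := hM.exists_trans ha' (a := (S.B x' b' - S.B x b') / S.B x a') (by
      have h2 : S.κ (S.B x a') ≠ 0 := by simpa using hβ0
      show S.κ _ = -_
      rw [map_div₀, ← neg_div, div_eq_div_iff h2 hβ0]
      have h1 := hnorm x'
      rw [hx', ← hx, hnorm x, ← hβ] at h1
      simp only [map_mul, κκ] at h1
      rw [map_sub]
      linear_combination -h1)
    have : (t : Module.End F V) x = x' := by
      rw [htx, div_mul_cancel₀ _ hβ0]
      conv_rhs => rw [hexp x', ← hβ]
      conv_lhs => arg 1; rw [hexp x]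
      rw [sub_smul]
      abel
    exact this ▸ hr.conj hM ht
  have stepB : ∀ x x', S.B x x = n → S.B x' x' = n → S.B x b' = S.B x' b' → S.Root M x → S.Root M x' := by
    intro x x' hx hx' hα hr
    have hα0 : S.B x b' ≠ 0 := fun h0 => hn0 (by rw [← hx, hnorm, h0]; simp)
    obtain ⟨t, ht, htx⟩ := hM.exists_trans hb' (a := (S.B x' a' - S.B x a') / S.B x b') (by
      have h2 : S.κ (S.B x b') ≠ 0 := by simpa using hα0
      show S.κ _ = -_
      rw [map_div₀, ← neg_div, div_eq_div_iff h2 hα0]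
      have h1 := hnorm x'
      rw [hx', ← hx, hnorm x, ← hα] at h1
      simp only [map_mul, κκ] at h1
      rw [map_sub]
      linear_combination -h1)
    have : (t : Module.End F V) x = x' := by
      rw [htx, div_mul_cancel₀ _ hα0]
      conv_rhs => rw [hexp x', ← hα]
      conv_lhs => arg 1; rw [hexp x]
      rw [sub_smul]
      abel
    exact this ▸ hr.conj hM ht
  have hκn : S.κ n = n := by rw [hn, map_add, κκ, add_comm]
  have move : ∀ x x', S.B x x = n → S.B x' x' = n → S.κ (S.B x' a' / S.B x a') ≠ S.B x' a' / S.B x a' →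
      S.Root M x → S.Root M x' := by
    intro x x' hx hx' hne hr
    set β := S.B x a' with hβ
    set β' := S.B x' a' with hβ'
    have hβ0 : β ≠ 0 := fun h0 => hn0 (by rw [← hx, hnorm, ← hβ, h0]; simp)
    have hκβ : S.κ β ≠ 0 := by simpa using hβ0
    obtain ⟨ρ, hρ⟩ : ∃ ρ, ρ = S.κ β' / S.κ β := ⟨_, rfl⟩
    have hκρ : S.κ ρ = β' / β := by rw [hρ, map_div₀, κκ, κκ]
    have hne' : ρ - S.κ ρ ≠ 0 := by
      rw [hκρ, hρ, ← map_div₀]
      exact sub_ne_zero.2 hne
    obtain ⟨k, hk⟩ : ∃ k, k = n * (1 - S.κ ρ) / (ρ - S.κ ρ) := ⟨_, rfl⟩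
    have hne'' : S.κ ρ - ρ ≠ 0 := by rw [← neg_sub]; exact neg_ne_zero.2 hne'
    have h1 : k + S.κ k = n := by
      rw [hk, map_div₀, map_mul, map_sub, map_sub, κκ, map_one, hκn]
      field_simp
      ring
    have h2 : k * ρ + S.κ (k * ρ) = n := by
      rw [map_mul, hk, map_div₀, map_mul, map_sub, map_sub, κκ, map_one, hκn]
      field_simp
      ring
    set α := k / S.κ β with hα
    obtain ⟨e1, e2⟩ := hmk α β
    obtain ⟨e3, e4⟩ := hmk α β'
    have hy : S.B (α • a' + β • b') (α • a' + β • b') = n := by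
      rw [hnorm, e1, e2, hα, div_mul_cancel₀ _ hκβ, h1]
    have hy' : S.B (α • a' + β' • b') (α • a' + β' • b') = n := by
      rw [hnorm, e3, e4, hα, div_mul_eq_mul_div, mul_div_assoc, ← hρ, h2]
    exact stepA _ x' hy' hx' (by rw [e4]) (stepB _ _ hy hy' (by rw [e1, e3]) (stepA x _ hx hy (by rw [e2]) hr))
  have orbit : ∀ x x', S.B x x = n → S.B x' x' = n → S.Root M x → S.Root M x' := by
    intro x x' hx hx' hr
    have hβ0 : S.B x a' ≠ 0 := fun h0 => hn0 (by rw [← hx, hnorm, h0]; simp)
    have hβ'0 : S.B x' a' ≠ 0 := fun h0 => hn0 (by rw [← hx', hnorm, h0]; simp)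
    by_cases hfix : S.κ (S.B x' a' / S.B x a') = S.B x' a' / S.B x a'
    swap
    · exact move x x' hx hx' hfix hr
    obtain ⟨e, he⟩ := S.exists_e
    set E := algebraMap F K e with hE
    have hEne : S.κ E ≠ E := fun h0 => he ((algebraMap F K).injective (by rw [← κ_algebraMap, ← hE, h0]))
    have hE0 : E ≠ 0 := fun h0 => hEne (by rw [h0, map_zero])
    obtain ⟨k, hk⟩ := S.exists_half hκn
    obtain ⟨e1, e2⟩ := hmk (k / S.κ (E * S.B x a')) (E * S.B x a')
    set x'' := (k / S.κ (E * S.B x a')) • a' + (E * S.B x a') • b'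
    have hx'' : S.B x'' x'' = n := by
      rw [hnorm, e1, e2, div_mul_cancel₀ _ (by simpa using And.intro hE0 hβ0), hk]
    refine move x'' x' hx'' hx' (fun h0 => ?_) (move x x'' hx hx'' ?_ hr)
    · rw [e2, show S.B x' a' / (E * S.B x a') = S.B x' a' / S.B x a' / E by rw [div_div, mul_comm],
        map_div₀, hfix] at h0
      exact hEne ((inv_inj.1 (mul_left_cancel₀ (div_ne_zero hβ'0 hβ0) (by simpa [div_eq_mul_inv] using h0))))
    · rw [e2, mul_div_cancel_right₀ _ hβ0]
      exact hEne
  obtain ⟨q', hq's, hq'tr⟩ := S.exists_skew_tr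
  have hq'0 : q' ≠ 0 := fun h0 => hq'tr (by rw [h0, map_zero])
  obtain ⟨k, hk⟩ := S.exists_half hκn
  obtain ⟨e1, e2⟩ := hmk (k / S.κ q') q'
  set y' := (k / S.κ q') • a' + q' • b'
  have hy' : S.B y' y' = n := by rw [hnorm, e1, e2, div_mul_cancel₀ _ (by simpa using hq'0), hk]
  have hu' : S.B (a' - y') (a' - y') = n := by
    simp only [S.B_sub_left, S.B_sub_right, ha', hy', e2, ← S.κB y' a', show S.κ q' = -q' from hq's]
    ring
  have htrn : (tr n : F) = 0 := by rw [← hxx]; exact hfx
  have := (orbit x₀ y' hxx hy' hrx).add hM (orbit x₀ (a' - y') hxx hu' hrx) (by rw [f, hy', htrn])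
    (by rw [f, hu', htrn]) (by rw [add_sub_cancel, f, ha', map_zero])
    (by rw [f, S.B_sub_right, e2, hy', map_sub, htrn, sub_zero]; exact hq'tr)
  rwa [add_sub_cancel] at this

/-- All root groups from one at a nonzero isotropic vector. -/
theorem Over.root_all (hM : S.Over M) (hr : (finrank F K).Prime) (hb : S.Big) (hm : 2 ≤ finrank K V) {v : V}
    (hv : S.B v v = 0) (hv0 : v ≠ 0) (h : S.Root M v) {x : V} (hx : S.f x x = 0) : S.Root M x := by
  have hiso : ∀ a, S.B a a = 0 → S.Root M a := fun a ha => by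
    rcases Nat.lt_or_ge (finrank K V) 3 with hlt | hge
    · obtain ⟨l, hl⟩ := hb.resolve_right (by omega)
      exact hM.root_iso_two hr (by omega) hl hv hv0 h ha
    · exact hM.root_iso hge hv hv0 h ha
  by_cases hxx : S.B x x = 0
  · exact hiso x hxx
  obtain ⟨v', hv', hne⟩ : ∃ v', S.B v' v' = 0 ∧ S.B v' x ≠ 0 := by
    by_cases h1 : S.B v x = 0
    swap
    · exact ⟨v, hv, h1⟩
    obtain ⟨y, hy, hvy⟩ := S.exists_partner hv hv0
    by_cases h2 : S.B y x = 0
    swap
    · exact ⟨y, hy, h2⟩
    -- `v + j • y + x` has a free coefficient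
    obtain ⟨k, hk⟩ := S.exists_iso_add (v := v) (y := y + x) hv (by
      rw [S.B_add_right, hvy, h1, add_zero]; exact one_ne_zero)
    refine ⟨y + x + k • v, hk, ?_⟩
    rw [S.B_add_left, S.B_add_left, S.B_smul_left, h2, h1, mul_zero, add_zero, zero_add]
    exact hxx
  obtain ⟨p₀, hp₀⟩ := S.exists_half (S.κB x x)
  obtain ⟨p, hp, hptr⟩ : ∃ p : K, p + S.κ p = S.B x x ∧ (tr p : F) ≠ 0 := by
    by_cases h0 : (tr p₀ : F) = 0
    · obtain ⟨a, ha, hatr⟩ := S.exists_skew_tr
      exact ⟨p₀ + a, by rw [map_add, show S.κ a = -a from ha]; linear_combination hp₀,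
        by rwa [map_add, h0, zero_add]⟩
    · exact ⟨p₀, hp₀, h0⟩
  set w := (p / S.B v' x) • v' with hw
  have hwx : S.B w x = p := by rw [hw, S.B_smul_left, div_mul_cancel₀ _ hne]
  have hww : S.B w w = 0 := by rw [hw, S.B_smul_left, S.B_smul_right, hv', mul_zero, mul_zero]
  have hu : S.B (x - w) (x - w) = 0 := by
    simp only [S.B_sub_left, S.B_sub_right, hww, hwx, ← S.κB w x]
    linear_combination -hp
  have := (hiso w hww).add hM (hiso _ hu) (by rw [f, hww, map_zero]) (by rw [f, hu, map_zero])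
    (by rwa [add_sub_cancel]) (by rwa [f, S.B_sub_right, hwx, hww, sub_zero])
  rwa [add_sub_cancel] at this

end Cfsg.Agent.H58.SUExt.UForm
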